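import Mathlib
import Cfsg.Prelude.Def_KGroupFacts
import Cfsg.Prelude.Def_Transfer

/-!
# 2-nilpotent groups

`TN A` : a product of two elements of odd order of `A` has odd order (`A` has a normal 2-complement).
`TNOut K` : `TN (Out K)`.
-/

set_option autoImplicit false

namespace Cfsg.Agent.H276.TwoNil

open Cfsg

universe u v

/-- the elements of odd order form a subgroup -/
def TN (A : Type*) [Group A] : Prop :=
  ∀ x y : A, Odd (orderOf x) → Odd (orderOf y) → Odd (orderOf (x * y))

variable {A : Type u} {B : Type v} [Group A] [Group B]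

theorem odd_orderOf_of_pow {x : A} {m : ℕ} (hm : Odd m) (h : x ^ m = 1) : Odd (orderOf x) :=
  Odd.of_dvd_nat hm (orderOf_dvd_of_pow_eq_one h)

theorem odd_orderOf_map (f : A →* B) {x : A} (h : Odd (orderOf x)) : Odd (orderOf (f x)) :=
  Odd.of_dvd_nat h (orderOf_map_dvd f x)

theorem TN.of_comm (h : ∀ x y : A, x * y = y * x) : TN A := by
  intro x y hx hy
  refine odd_orderOf_of_pow (hx.mul hy) ?_
  have hc : Commute x y := h x y
  rw [hc.mul_pow, pow_mul, pow_orderOf_eq_one, one_pow, mul_comm, pow_mul, pow_orderOf_eq_one, one_pow, one_mul]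

theorem TN.of_odd [Finite A] (h : Odd (Nat.card A)) : TN A := by
  intro _ _ _ _
  exact Odd.of_dvd_nat h (orderOf_dvd_natCard _)

/-- odd kernel -/
theorem TN.of_hom (f : A →* B) (hB : TN B) (hker : ∀ x, f x = 1 → Odd (orderOf x)) : TN A := by
  intro x y hx hy
  have h1 := hB (f x) (f y) (odd_orderOf_map f hx) (odd_orderOf_map f hy)
  rw [← map_mul] at h1
  set m := orderOf (f (x * y)) with hm
  have h2 : f ((x * y) ^ m) = 1 := by rw [map_pow, hm, pow_orderOf_eq_one]
  have h3 := hker _ h2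
  refine odd_orderOf_of_pow (h1.mul h3) ?_
  rw [pow_mul, pow_orderOf_eq_one]

/-- odd kernel, in terms of its order -/
theorem TN.of_hom_card [Finite A] (f : A →* B) (hB : TN B) (hker : Odd (Nat.card f.ker)) : TN A := by
  refine TN.of_hom f hB fun x hx => ?_
  have h1 : orderOf (⟨x, hx⟩ : f.ker) ∣ Nat.card f.ker := orderOf_dvd_natCard _
  rw [← Subgroup.orderOf_coe] at h1
  exact Odd.of_dvd_nat hker h1

/-- a 2-group on top -/
theorem TN.of_hom_two (f : A →* B) (hB : ∀ b : B, Odd (orderOf b) → b = 1)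
    (hker : ∀ x y : A, f x = 1 → f y = 1 → Odd (orderOf x) → Odd (orderOf y) → Odd (orderOf (x * y))) : TN A :=
  fun x y hx hy => hker x y (hB _ (odd_orderOf_map f hx)) (hB _ (odd_orderOf_map f hy)) hx hy

theorem TN.of_injective (f : A →* B) (hf : Function.Injective f) (hB : TN B) : TN A := by
  intro x y hx hy
  have h1 := hB (f x) (f y) (odd_orderOf_map f hx) (odd_orderOf_map f hy)
  rwa [← map_mul, orderOf_injective f hf] at h1

theorem TN.subgroup (H : Subgroup A) (hA : TN A) : TN H := TN.of_injective H.subtype H.subtype_injective hA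

theorem exists_odd_lift [Finite A] (f : A →* B) (a : A) (h : Odd (orderOf (f a))) :
    ∃ c : A, f c = f a ∧ Odd (orderOf c) := by
  have h0 : orderOf a ≠ 0 := (orderOf_pos a).ne'
  obtain ⟨k, m, hm, hk⟩ := Nat.exists_eq_two_pow_mul_odd h0
  have hco : Nat.Coprime (orderOf (f a)) (2 ^ k) := by
    apply Nat.Coprime.pow_right
    exact (Nat.coprime_two_right).2 h
  obtain ⟨e, he1, he2⟩ := Nat.chineseRemainder hco 1 0
  refine ⟨a ^ e, ?_, odd_orderOf_of_pow hm ?_⟩
  · rw [map_pow]
    have : f a ^ e = f a ^ 1 := pow_eq_pow_iff_modEq.2 he1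
    rw [this, pow_one]
  · rw [← pow_mul]
    apply orderOf_dvd_iff_pow_eq_one.1
    rw [hk]
    exact Nat.mul_dvd_mul ((Nat.modEq_zero_iff_dvd).1 he2) dvd_rfl

theorem TN.of_surjective [Finite A] (f : A →* B) (hf : Function.Surjective f) (hA : TN A) : TN B := by
  intro x y hx hy
  obtain ⟨a, rfl⟩ := hf x
  obtain ⟨b, rfl⟩ := hf y
  obtain ⟨c, hc, hc2⟩ := exists_odd_lift f a hx
  obtain ⟨d, hd, hd2⟩ := exists_odd_lift f b hy
  rw [← hc, ← hd, ← map_mul]
  exact odd_orderOf_map f (hA c d hc2 hd2)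

theorem TN.of_equiv (e : A ≃* B) (hA : TN A) : TN B :=
  TN.of_injective e.symm.toMonoidHom e.symm.injective hA

theorem TN.prod (hA : TN A) (hB : TN B) : TN (A × B) := by
  intro x y hx hy
  have h1 := hA x.1 y.1 (odd_orderOf_map (MonoidHom.fst A B) hx) (odd_orderOf_map (MonoidHom.fst A B) hy)
  have h2 := hB x.2 y.2 (odd_orderOf_map (MonoidHom.snd A B) hx) (odd_orderOf_map (MonoidHom.snd A B) hy)
  refine odd_orderOf_of_pow (h1.mul h2) ?_
  ext
  · show (x.1 * y.1) ^ _ = 1
    rw [pow_mul, pow_orderOf_eq_one, one_pow]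
  · show (x.2 * y.2) ^ _ = 1
    rw [mul_comm, pow_mul, pow_orderOf_eq_one, one_pow]

theorem tn_perm_three : TN (Equiv.Perm (Fin 3)) := by
  refine TN.of_hom (Equiv.Perm.sign : Equiv.Perm (Fin 3) →* ℤˣ) (TN.of_comm fun x y => mul_comm x y) ?_
  intro x hx
  refine odd_orderOf_of_pow (m := 3) (by decide) ?_
  revert x
  decide

/-- a group generated by elements of odd order has images of odd order in `TN` groups -/
theorem TN.odd_range [Finite B] {G : Type*} [Group G] (hG : pResidual 2 G = ⊤) (f : G →* B) (hB : TN B) :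
    Odd (Nat.card f.range) := by
  let K : Subgroup B :=
    { carrier := {x | Odd (orderOf x)}
      mul_mem' := fun {a b} ha hb => hB a b ha hb
      one_mem' := by
        show Odd (orderOf (1 : B))
        rw [orderOf_one]; exact odd_one
      inv_mem' := fun {a} ha => by
        show Odd (orderOf a⁻¹)
        rw [orderOf_inv]; exact ha }
  have h1 : f.range ≤ K := by
    rw [MonoidHom.range_eq_map, ← hG, pResidual, MonoidHom.map_closure, Subgroup.closure_le]
    rintro _ ⟨g, hg, rfl⟩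
    exact odd_orderOf_map f ((Nat.coprime_two_right).1 hg)
  rw [← Nat.not_even_iff_odd, even_iff_two_dvd]
  intro h2
  have : Fact (Nat.Prime 2) := ⟨Nat.prime_two⟩
  obtain ⟨x, hx⟩ := exists_prime_orderOf_dvd_card' 2 h2
  have h3 : Odd (orderOf (x : B)) := h1 x.2
  rw [Subgroup.orderOf_coe, hx] at h3
  exact absurd h3 (by decide)

/-! ### `Out` -/

/-- `Out K` is 2-nilpotent -/
def TNOut (K : Type*) [Group K] : Prop := TN (Cfsg.Out K)

/-- from a group `C` mapping onto `Out K` -/
theorem TNOut.of_cover {K C : Type*} [Group K] [Group C] [Finite C] (f : C →* MulAut K)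
    (hs : ∀ α : MulAut K, ∃ k : K, ∃ c : C, α = MulAut.conj k * f c) (hC : TN C) : TNOut K := by
  refine TN.of_surjective ((QuotientGroup.mk' (Cfsg.Inn K)).comp f) ?_ hC
  intro x
  obtain ⟨α, rfl⟩ := QuotientGroup.mk'_surjective _ x
  obtain ⟨k, c, rfl⟩ := hs α
  refine ⟨c, ?_⟩
  rw [map_mul]
  have h1 : QuotientGroup.mk' (Cfsg.Inn K) (MulAut.conj k) = 1 := (QuotientGroup.eq_one_iff _).2 ⟨k, rfl⟩
  rw [h1, one_mul]
  rfl

/-- the isomorphism of automorphism groups maps inner automorphisms to inner ones -/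
theorem TNOut.of_equiv {K L : Type*} [Group K] [Group L] [Finite K] (e : K ≃* L) (h : TNOut K) : TNOut L := by
  have hK : Finite (Cfsg.Out K) := Quotient.finite _
  let F : Cfsg.Out K →* Cfsg.Out L := QuotientGroup.map (Cfsg.Inn K) (Cfsg.Inn L)
    (MulAut.congr e).toMonoidHom (by
      rintro _ ⟨k, rfl⟩
      refine ⟨e k, ?_⟩
      ext x
      show e k * x * (e k)⁻¹ = e (k * e.symm x * k⁻¹)
      rw [map_mul, map_mul, map_inv, MulEquiv.apply_symm_apply])
  refine TN.of_surjective F ?_ h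
  intro y
  obtain ⟨β, rfl⟩ := QuotientGroup.mk'_surjective _ y
  refine ⟨QuotientGroup.mk' _ ((MulAut.congr e).symm β), ?_⟩
  show QuotientGroup.mk' (Cfsg.Inn L) (MulAut.congr e ((MulAut.congr e).symm β)) = _
  rw [MulEquiv.apply_symm_apply]

/-- `Out K` of odd order -/
theorem TNOut.of_card {K : Type*} [Group K] [Finite K] (h : Odd (Nat.card (Cfsg.Out K))) : TNOut K := by
  have hK : Finite (Cfsg.Out K) := Quotient.finite _
  exact TN.of_odd h

/-- `Out K` of order at most 2 -/
theorem TNOut.of_card_le_two {K : Type*} [Group K] [Finite K] (h : Nat.card (Cfsg.Out K) ≤ 2) : TNOut K := by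
  have hK : Finite (Cfsg.Out K) := Quotient.finite _
  have h0 : 0 < Nat.card (Cfsg.Out K) := Nat.card_pos
  rcases Nat.lt_or_ge (Nat.card (Cfsg.Out K)) 2 with h1 | h1
  · have h2 : Nat.card (Cfsg.Out K) = 1 := by omega
    exact TNOut.of_card (by rw [h2]; exact odd_one)
  · have h2 : Nat.card (Cfsg.Out K) = 2 := by omega
    have : Fact (Nat.Prime 2) := ⟨Nat.prime_two⟩
    have : IsCyclic (Cfsg.Out K) := isCyclic_of_prime_card h2
    exact TN.of_comm (fun x y => (IsCyclic.commGroup (α := Cfsg.Out K)).mul_comm x y)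

end Cfsg.Agent.H276.TwoNil
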