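import Cfsg.Agent.CpAut.TwoAbs
import Cfsg.Agent.ResEven.Base
import Cfsg.Agent.EvenType.CharTwoCent
import Cfsg.Agent.Lib.MinNormalNonabelian
import Cfsg.Agent.Lib.SubnormalJoin
import Cfsg.Agent.SignalizersComponents.IntrinsicDiag
import Cfsg.Agent.S0205
import Cfsg.Agent.H276.TwoNil
import Cfsg.Prelude.Def_Involutions

/-!
# Groups of characteristic 2 type without strongly embedded subgroup and with `O₂(G) = 1`

* `ctt_of_normal` : normal subgroups of even order are of characteristic 2 type;
* `almost_simple` : a finite group of characteristic 2 type with `O₂(G) = 1` and without strongly embedded subgroup has a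
  simple nonabelian normal subgroup with trivial centralizer;
* `odd_index` : if moreover `O²(G) = G` and `Out(L)` is 2-nilpotent, then `|G : L|` is odd.
-/

set_option autoImplicit false

namespace Cfsg.Agent.H276.Almost

open Subgroup Cfsg Cfsg.Agent.H276.TwoNil

universe u

variable {G : Type u} [Group G] [Finite G]

/-- normal subgroups of groups of characteristic 2 type -/
theorem ctt_of_normal (h : IsCharacteristicTwoType G) (L : Subgroup G) [L.Normal] (he : Even (Nat.card L)) :
    IsCharacteristicTwoType L := by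
  refine ⟨he, fun T hT hT1 => ?_⟩
  have h1 : IsPGroup 2 ↥(T.map L.subtype) := hT.map _
  have h2 : T.map L.subtype ≠ ⊥ := fun h3 => hT1 ((T.map_eq_bot_iff_of_injective L.subtype_injective).1 h3)
  have h3 := h.2 _ h1 h2
  set N := normalizer ((T.map L.subtype : Subgroup G) : Set G) with hN
  have h4 : IsOfCharacteristicTwo ↥(L.subgroupOf N) := CpAut.TwoAbs.ct_of_normal h3 _
  have hmem : ∀ x : L, x ∈ normalizer (T : Set L) ↔ (x : G) ∈ N := by
    intro x
    rw [hN, mem_normalizer_iff, mem_normalizer_iff]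
    constructor
    · intro hx y
      constructor
      · rintro ⟨t, ht, rfl⟩
        exact ⟨x * t * x⁻¹, (hx t).1 ht, rfl⟩
      · rintro ⟨t, ht, hty⟩
        have h5 : x * (x⁻¹ * t * x) * x⁻¹ ∈ T := by
          have : x * (x⁻¹ * t * x) * x⁻¹ = t := by group
          rw [this]; exact ht
        refine ⟨x⁻¹ * t * x, (hx _).2 h5, ?_⟩
        show (x : G)⁻¹ * (t : G) * (x : G) = y
        have h6 : (t : G) = x * y * (x : G)⁻¹ := hty
        rw [h6]; group
    · intro hx t
      constructor
      · intro ht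
        obtain ⟨s, hs, hst⟩ := (hx t).1 ⟨t, ht, rfl⟩
        have : s = x * t * x⁻¹ := Subtype.ext hst
        rwa [← this]
      · intro ht
        obtain ⟨s, hs, hst⟩ := (hx t).2 ⟨_, ht, rfl⟩
        have : s = t := Subtype.ext hst
        rwa [← this]
  let e : ↥(L.subgroupOf N) ≃* ↥(normalizer (T : Set L)) :=
    { toFun := fun x => ⟨⟨((x : N) : G), x.2⟩, (hmem _).2 (x : N).2⟩
      invFun := fun x => ⟨⟨((x : L) : G), (hmem _).1 x.2⟩, (x : L).2⟩
      left_inv := fun x => rfl
      right_inv := fun x => rfl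
      map_mul' := fun x y => rfl }
  exact CpAut.TwoAbs.ct_congr e h4

/-- an element of a normal subgroup of odd order commuting with an involution is trivial -/
theorem eq_one_of_odd_normal (h : IsCharacteristicTwoType G) {N : Subgroup G} (hN : N.Normal) (ho : Odd (Nat.card N))
    {t : G} (ht : orderOf t = 2) {x : G} (hx : x ∈ N) (hxt : x * t = t * x) : x = 1 := by
  have h1 := EvenType.CharTwoCent.char2_centralizer h ht
  have h2 := CpAut.TwoAbs.core_of_ct h1
  have hle : N.subgroupOf (centralizer ({t} : Set G)) ≤ pPrimeCore 2 ↥(centralizer ({t} : Set G)) := by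
    apply Lib.Cores.le_pPrimeCore inferInstance
    have h3 : Nat.card ↥(N.subgroupOf (centralizer ({t} : Set G))) ∣ Nat.card N := by
      have h4 : Nat.card ↥(N.subgroupOf (centralizer ({t} : Set G))) =
          Nat.card ↥((N.subgroupOf (centralizer ({t} : Set G))).map (centralizer ({t} : Set G)).subtype) :=
        (Subgroup.card_map_of_injective (subtype_injective _)).symm
      rw [h4]
      exact Subgroup.card_dvd_of_le (by rw [subgroupOf_map_subtype]; exact inf_le_left)
    exact Nat.coprime_two_right.2 (ho.of_dvd_nat h3)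
  rw [h2] at hle
  have h3 : (⟨x, mem_centralizer_singleton_iff.2 hxt⟩ : ↥(centralizer ({t} : Set G))) ∈ (⊥ : Subgroup _) := hle hx
  rw [mem_bot] at h3
  exact congrArg Subtype.val h3

/-- an involution inverts a normal subgroup of odd order -/
theorem inv_of_odd_normal (h : IsCharacteristicTwoType G) {N : Subgroup G} (hN : N.Normal) (ho : Odd (Nat.card N))
    {t : G} (ht : orderOf t = 2) {x : G} (hx : x ∈ N) : t * x * t⁻¹ = x⁻¹ := by
  have ht2 : t * t = 1 := by rw [← pow_two, ← ht, pow_orderOf_eq_one]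
  let f : N → N := fun n => n⁻¹ * ⟨t * n * t⁻¹, hN.conj_mem n n.2 t⟩
  have hf : Function.Injective f := by
    intro a b hab
    have h1 : (a : G)⁻¹ * (t * a * t⁻¹) = (b : G)⁻¹ * (t * b * t⁻¹) := congrArg Subtype.val hab
    have h2 : ((b : G) * (a : G)⁻¹) = 1 := by
      apply eq_one_of_odd_normal h hN ho ht (mul_mem b.2 (inv_mem a.2))
      have h3 : (b : G) * (a : G)⁻¹ * t = t * b * t⁻¹ * (t * a * t⁻¹)⁻¹ * t := by
        have h4 : t * a * t⁻¹ = a * ((b : G)⁻¹ * (t * b * t⁻¹)) := by rw [← h1]; group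
        rw [h4]; group
      rw [h3]; group
    have h3 : (b : G) = a := mul_inv_eq_one.1 h2
    exact Subtype.ext h3.symm
  obtain ⟨n, hn⟩ := (Finite.injective_iff_surjective.1 hf) ⟨x, hx⟩
  have hn' : (n : G)⁻¹ * (t * n * t⁻¹) = x := congrArg Subtype.val hn
  rw [← hn']
  have h5 : t * ((n : G)⁻¹ * (t * n * t⁻¹)) * t⁻¹ = t * (n : G)⁻¹ * t⁻¹ * (t * t) * n * (t * t)⁻¹ := by group
  rw [h5, ht2]; group

theorem comm_eq_of_odd_normal (h : IsCharacteristicTwoType G) {N : Subgroup G} (hN : N.Normal) (ho : Odd (Nat.card N))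
    (hne : N ≠ ⊥) {t u : G} (ht : orderOf t = 2) (hu : orderOf u = 2) (htu : t * u = u * t) : t = u := by
  have ht2 : t * t = 1 := by rw [← pow_two, ← ht, pow_orderOf_eq_one]
  have hu2 : u * u = 1 := by rw [← pow_two, ← hu, pow_orderOf_eq_one]
  by_contra hn
  obtain ⟨⟨x, hx⟩, hx1⟩ := Subgroup.ne_bot_iff_exists_ne_one.1 hne
  apply hx1
  have h3 : orderOf (t * u) = 2 := by
    apply orderOf_eq_prime
    · rw [pow_two]
      calc t * u * (t * u) = t * (u * t) * u := by group
        _ = t * (t * u) * u := by rw [htu]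
        _ = (t * t) * (u * u) := by group
        _ = 1 := by rw [ht2, hu2, one_mul]
    · intro h1
      apply hn
      calc t = t * (u * u) := by rw [hu2, mul_one]
        _ = (t * u) * u := by group
        _ = u := by rw [h1, one_mul]
  apply Subtype.ext
  apply eq_one_of_odd_normal h hN ho h3 hx
  have h4 := inv_of_odd_normal h hN ho ht (inv_mem hx)
  have h5 := inv_of_odd_normal h hN ho hu hx
  show x * (t * u) = t * u * x
  have h6 : t * u * x * (t * u)⁻¹ = x := by
    calc t * u * x * (t * u)⁻¹ = t * (u * x * u⁻¹) * t⁻¹ := by group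
      _ = t * x⁻¹ * t⁻¹ := by rw [h5]
      _ = x := by rw [h4, inv_inv]
  exact (mul_inv_eq_iff_eq_mul.1 h6).symm

theorem exists_invo {K : Type*} [Group K] [Finite K] (h : Even (Nat.card K)) : ∃ t : K, orderOf t = 2 := by
  have : Fact (Nat.Prime 2) := ⟨Nat.prime_two⟩
  exact exists_prime_orderOf_dvd_card' 2 h.two_dvd

/-- no normal subgroup of odd order -/
theorem odd_normal_eq_bot (h : IsCharacteristicTwoType G) (hO : pCore 2 G = ⊥)
    (hse : ¬ ∃ H : Subgroup G, IsStronglyEmbedded H) {N : Subgroup G} (hN : N.Normal) (ho : Odd (Nat.card N)) :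
    N = ⊥ := by
  by_contra hne
  obtain ⟨z, hz⟩ := exists_invo h.1
  apply hse
  have hinv : ∀ g : G, orderOf (g * z * g⁻¹) = 2 := by
    intro g
    rw [← hz]
    exact orderOf_injective (MulAut.conj g).toMonoidHom (MulAut.conj g).injective z
  refine ⟨centralizer ({z} : Set G), ?_, ?_, ?_⟩
  · intro htop
    have h1 : (zpowers z).Normal := by
      refine ⟨fun n hn g => ?_⟩
      have h2 : g ∈ centralizer ({z} : Set G) := by rw [htop]; exact mem_top g
      rw [mem_centralizer_singleton_iff] at h2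
      obtain ⟨k, rfl⟩ := mem_zpowers_iff.1 hn
      have h3 : g * z ^ k * g⁻¹ = z ^ k := by
        have : Commute g (z ^ k) := (show Commute g z from h2).zpow_right k
        rw [this.eq, mul_inv_cancel_right]
      rw [h3]; exact zpow_mem (mem_zpowers z) k
    have h2 : IsPGroup 2 ↥(zpowers z) := IsPGroup.of_card (n := 1) (by rw [Nat.card_zpowers, hz, pow_one])
    have h3 : zpowers z ≤ pCore 2 G := Lib.Cores.le_pCore h1 h2
    rw [hO, le_bot_iff, zpowers_eq_bot] at h3
    rw [h3, orderOf_one] at hz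
    omega
  · rw [even_iff_two_dvd, ← hz]
    have h1 : orderOf (⟨z, mem_centralizer_singleton_iff.2 rfl⟩ : ↥(centralizer ({z} : Set G))) = orderOf z := by
      rw [← Subgroup.orderOf_coe]
    rw [← h1]
    exact orderOf_dvd_natCard _
  · intro g hg
    rw [← Nat.not_even_iff_odd]
    intro hev
    obtain ⟨x', hx'⟩ := exists_invo hev
    obtain ⟨x, hx, hx1, hx2⟩ : ∃ x : G, orderOf x = 2 ∧ x ∈ centralizer ({z} : Set G) ∧
        x ∈ (centralizer ({z} : Set G)).map (MulAut.conj g).toMonoidHom :=
      ⟨x', by rw [Subgroup.orderOf_coe]; exact hx', x'.2.1, x'.2.2⟩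
    apply hg
    have h1 : x = z := by
      apply comm_eq_of_odd_normal h hN ho hne hx hz
      exact mem_centralizer_singleton_iff.1 hx1
    obtain ⟨y, hy, hyx⟩ := hx2
    have h2 : x = g * z * g⁻¹ := by
      apply comm_eq_of_odd_normal h hN ho hne hx (hinv g)
      have hy' := mem_centralizer_singleton_iff.1 hy
      have h3 : x = g * y * g⁻¹ := hyx.symm
      rw [h3]
      calc g * y * g⁻¹ * (g * z * g⁻¹) = g * (y * z) * g⁻¹ := by group
        _ = g * (z * y) * g⁻¹ := by rw [hy']
        _ = _ := by group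
    rw [mem_centralizer_singleton_iff]
    rw [h1] at h2
    exact (eq_mul_inv_iff_mul_eq.1 h2).symm

/-- a subnormal simple nonabelian subgroup does not commute with an involution -/
theorem no_invo_of_subnormal (h : IsCharacteristicTwoType G) {K : Subgroup G} (hK : K.IsSubnormal)
    (hs : IsSimpleGroup K) (hna : ¬ IsMulCommutative K) {t : G} (ht : orderOf t = 2)
    (hKt : K ≤ centralizer ({t} : Set G)) : False := by
  refine ResEven.Base.noComp_of_charTwo h ht K ⟨hKt, hK.subgroupOf, ?_⟩
  have e : ↥(K.subgroupOf (centralizer ({t} : Set G))) ≃* ↥K := subgroupOfEquivOfLe hKt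
  have hs' : IsSimpleGroup ↥(K.subgroupOf (centralizer ({t} : Set G))) := e.isSimpleGroup
  refine SignalizersComponents.IntrinsicDiag.quasisimple_of_simple hs' ?_
  intro hc
  apply hna
  refine ⟨⟨fun a b => ?_⟩⟩
  apply e.symm.injective
  rw [map_mul, map_mul]
  exact hc.is_comm.comm _ _

theorem even_of_simple {K : Type*} [Group K] [Finite K] (hs : IsSimpleGroup K) (hna : ¬ IsMulCommutative K) :
    Even (Nat.card K) := by
  rw [← Nat.not_odd_iff_even]
  intro ho
  have h1 := S0205.result ho
  apply hna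
  have h2 := IsSimpleGroup.comm_iff_isSolvable.2 h1
  exact ⟨⟨fun a b => h2 a b⟩⟩

/-- **The reduction to almost simple groups.** -/
theorem almost_simple (h : IsCharacteristicTwoType G) (hO : pCore 2 G = ⊥)
    (hse : ¬ ∃ H : Subgroup G, IsStronglyEmbedded H) :
    ∃ L : Subgroup G, L.Normal ∧ IsSimpleGroup L ∧ ¬ IsMulCommutative L ∧ centralizer (L : Set G) = ⊥ := by
  have hnt : Nontrivial G := by
    obtain ⟨z, hz⟩ := exists_invo h.1
    refine ⟨z, 1, ?_⟩
    rintro rfl
    rw [orderOf_one] at hz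
    omega
  obtain ⟨N, hN, hN1, hmin⟩ := Lib.SubnormalJoin.exists_minimal_normal G
  have hmin' : ∀ M : Subgroup G, M.Normal → M ≤ N → M = ⊥ ∨ M = N := hmin
  have hna : ¬ ∀ x ∈ N, ∀ y ∈ N, Commute x y := by
    intro hab
    obtain ⟨p, hp, hpN, -⟩ := Lib.MinNormalNonabelian.abelian_structure N hN1 hmin' hab
    by_cases hp2 : p = 2
    · subst hp2
      have h1 : N ≤ pCore 2 G := Lib.Cores.le_pCore hN hpN
      rw [hO, le_bot_iff] at h1
      exact hN1 h1
    · apply hN1
      apply odd_normal_eq_bot h hO hse hN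
      have : Fact p.Prime := ⟨hp⟩
      obtain ⟨n, hn⟩ := IsPGroup.iff_card.1 hpN
      rw [hn]
      exact (hp.odd_of_ne_two hp2).pow
  obtain ⟨⟨K, hK⟩, -, hsup, hsimp, hcen, -⟩ := Lib.MinNormalNonabelian.nonabelian_structure N hmin' hna
  have hsub : ∀ T ∈ Lib.MinNormalNonabelian.minSet N, T.IsSubnormal := by
    intro T hT
    have h1 : (T.subgroupOf N).Normal := (normal_subgroupOf_iff_le_normalizer hT.1).2 hT.2.2.1
    exact Subgroup.IsSubnormal.trans hT.1 h1.isSubnormal hN.isSubnormal
  have hnab : ∀ T ∈ Lib.MinNormalNonabelian.minSet N, ¬ IsMulCommutative T := by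
    intro T hT hc
    apply hT.2.1
    rw [eq_bot_iff]
    intro z hz
    rw [mem_bot]
    apply hcen T hT z hz
    intro t ht
    exact congrArg Subtype.val (hc.is_comm.comm ⟨z, hz⟩ ⟨t, ht⟩)
  have huniq : ∀ T ∈ Lib.MinNormalNonabelian.minSet N, T = K := by
    intro T hT
    by_contra hne
    have hbot : K ⊓ T = ⊥ := by
      have hn : N ≤ normalizer ((K ⊓ T : Subgroup G) : Set G) := by
        intro g hg
        rw [mem_normalizer_iff]
        intro x
        have h1 := mem_normalizer_iff.1 (hK.2.2.1 hg) x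
        have h2 := mem_normalizer_iff.1 (hT.2.2.1 hg) x
        rw [mem_inf, mem_inf]
        exact and_congr h1 h2
      rcases hK.2.2.2 _ inf_le_left hn with h1 | h1
      · exact h1
      · rcases hT.2.2.2 _ inf_le_right hn with h2 | h2
        · exact h2
        · exact absurd (h2.symm.trans h1) hne
    obtain ⟨⟨t, htT⟩, ht⟩ := exists_invo (even_of_simple (hsimp T hT) (hnab T hT))
    rw [Subgroup.orderOf_mk] at ht
    refine no_invo_of_subnormal h (hsub K hK) (hsimp K hK) (hnab K hK) ht ?_
    intro k hk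
    replace hk : k ∈ K := hk
    rw [mem_centralizer_singleton_iff]
    have h1 : k * t * k⁻¹ * t⁻¹ ∈ K ⊓ T := by
      refine mem_inf.2 ⟨?_, ?_⟩
      · have h2 : t * k⁻¹ * t⁻¹ ∈ K := (mem_normalizer_iff.1 (hK.2.2.1 (hT.1 htT)) k⁻¹).1 (K.inv_mem hk)
        have h3 : k * t * k⁻¹ * t⁻¹ = k * (t * k⁻¹ * t⁻¹) := by group
        rw [h3]; exact mul_mem hk h2
      · have h2 : k * t * k⁻¹ ∈ T := (mem_normalizer_iff.1 (hT.2.2.1 (hK.1 hk)) t).1 htT
        exact mul_mem h2 (T.inv_mem htT)
    rw [hbot, mem_bot, mul_inv_eq_one, mul_inv_eq_iff_eq_mul] at h1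
    exact h1
  have hKN : K = N := by
    rw [← hsup]
    apply le_antisymm (le_sSup hK)
    exact sSup_le fun T hT => (huniq T hT).le
  rw [← hKN] at hN
  refine ⟨K, hN, hsimp K hK, hnab K hK, ?_⟩
  have hCn : (centralizer (K : Set G)).Normal := inferInstance
  apply odd_normal_eq_bot h hO hse hCn
  rw [← Nat.not_even_iff_odd]
  intro hev
  obtain ⟨⟨t, htC⟩, ht⟩ := exists_invo hev
  rw [Subgroup.orderOf_mk] at ht
  refine no_invo_of_subnormal h (hsub K hK) (hsimp K hK) (hnab K hK) ht ?_
  intro k hk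
  rw [mem_centralizer_singleton_iff]
  exact mem_centralizer_iff.1 htC k hk

/-- **The index of the simple normal subgroup is odd.** -/
theorem odd_index (hG : pResidual 2 G = ⊤) {L : Subgroup G} [L.Normal] (hC : centralizer (L : Set G) = ⊥)
    (hout : TNOut L) : Odd L.index := by
  let f : G →* Cfsg.Out L := (QuotientGroup.mk' (Cfsg.Inn L)).comp MulAut.conjNormal
  have hfin : Finite (Cfsg.Out L) := Quotient.finite _
  have h1 := TN.odd_range hG f hout
  have h2 : f.ker ≤ L := by
    intro g hg
    have h3 : (MulAut.conjNormal g : MulAut L) ∈ Cfsg.Inn L := (QuotientGroup.eq_one_iff _).1 hg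
    obtain ⟨l, hl⟩ := h3
    have h4 : (l : G)⁻¹ * g ∈ centralizer (L : Set G) := by
      rw [mem_centralizer_iff]
      intro x hx
      have h5 := DFunLike.congr_fun hl ⟨x, hx⟩
      have h6 : (l : G) * x * (l : G)⁻¹ = g * x * g⁻¹ := congrArg Subtype.val h5
      have h7 : x * ((l : G)⁻¹ * g) = (l : G)⁻¹ * (l * x * (l : G)⁻¹) * g := by group
      rw [h7, h6]; group
    rw [hC, mem_bot, inv_mul_eq_one] at h4
    rw [← h4]; exact l.2
  have h3 : L.index ∣ f.ker.index := Subgroup.index_dvd_of_le h2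
  rw [Subgroup.index_ker] at h3
  exact h1.of_dvd_nat h3

end Cfsg.Agent.H276.Almost
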