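import Cfsg.Prelude.Def_BaumannBlocks
import Cfsg.Agent.H258.Bau
import Cfsg.Agent.TypeL3.Basic
import Cfsg.Agent.TwoFusion.SLTwoFacts
import Cfsg.Agent.OddCyclic.FFBasic
import Cfsg.Agent.Lib.Cores
import Cfsg.Agent.S2906

/-!
# Baumann blocks in groups with Sylow 2-subgroup of type `L₃(q)` or `Sp₄(q)`

* `thompson_eq`, `baumann_eq`, `class_two` : `J(T) = B(T) = T` and `T` has class 2, for `T = AB` as in `TypeL3.IsAB` with
  `|A| = |B|`;
* `Side T A E F` : `E/A ≅ SL₂(F)` acts on `A/C_A(E)` as on the natural module;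
* `Side.block` : then `E` is a Baumann block.
-/

set_option autoImplicit false
set_option linter.unusedSectionVars false

namespace Cfsg.Agent.H276.BlockAB

open Subgroup Cfsg Cfsg.Agent.TypeL3 Cfsg.Agent.PLocal.ThompsonJ
open Cfsg.Agent.H258.Bau (mem_omegaOneCenter)
open scoped commutatorElement

universe u v

section AB

variable {G : Type u} [Group G] [Finite G] {T A B : Subgroup G}

theorem le_thompson (h : IsAB T A B) (hc : Nat.card A = Nat.card B) : A ≤ thompsonSubgroupOf 2 T := by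
  have h1 : A.subgroupOf T ∈ maxElementaryAbelianSubgroups 2 T := by
    refine ⟨?_, ?_⟩
    · rw [isElementaryAbelian_iff]
      constructor
      · intro a ha b hb
        exact Subtype.ext (h.A_comm _ ha _ hb)
      · intro a ha
        exact Subtype.ext (by rw [pow_two]; exact h.A_sq _ ha)
    · intro C hC
      have e1 : Nat.card (A.subgroupOf T) = Nat.card A := Nat.card_congr (subgroupOfEquivOfLe h.A_le).toEquiv
      have e2 : Nat.card C = Nat.card (C.map T.subtype) := (card_map_of_injective T.subtype_injective).symm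
      rw [e1, e2]
      have h2 : C.map T.subtype ≤ A ∨ C.map T.subtype ≤ B := by
        apply h.le_or_le (map_subtype_le C)
        rintro _ ⟨c, hc, rfl⟩
        have := hC.2 c hc
        rw [pow_two] at this
        exact congrArg Subtype.val this
      rcases h2 with h2 | h2
      · exact Nat.le_of_dvd Nat.card_pos (card_dvd_of_le h2)
      · rw [hc]
        exact Nat.le_of_dvd Nat.card_pos (card_dvd_of_le h2)
  have h2 := le_thompsonSubgroup h1
  have h3 := map_mono (f := T.subtype) h2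
  rw [subgroupOf_map_subtype, inf_eq_left.2 h.A_le] at h3
  exact h3

theorem thompson_eq (h : IsAB T A B) (hc : Nat.card A = Nat.card B) : thompsonSubgroupOf 2 T = T := by
  apply le_antisymm (thompsonSubgroupOf_le_self 2 T)
  intro t ht
  obtain ⟨a, ha, b, hb, rfl⟩ := h.prod t ht
  exact mul_mem (le_thompson h hc ha) (le_thompson h.symm hc.symm hb)

theorem baumann_eq (h : IsAB T A B) (hc : Nat.card A = Nat.card B) : baumannSubgroupOf 2 T = T := by
  unfold baumannSubgroupOf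
  apply le_antisymm inf_le_left
  refine le_inf le_rfl ?_
  intro t ht
  rw [mem_centralizer_iff]
  intro z hz
  have h1 : z ∈ omegaOneCenter 2 T := by
    have : omegaOne 2 (centerThompsonOf 2 T) = omegaOneCenter 2 T := by
      unfold omegaOneCenter centerThompsonOf
      rw [thompson_eq h hc]
    rw [← this]; exact hz
  exact (mem_omegaOneCenter.1 h1).2.1 t ht

theorem class_two (h : IsAB T A B) [Group.IsNilpotent ↥T] : Group.nilpotencyClass ↥T = 2 := by
  apply le_antisymm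
  · rw [← Subgroup.lowerCentralSeries_eq_bot_iff_nilpotencyClass_le]
    rw [Subgroup.lowerCentralSeries_succ]
    rw [eq_bot_iff, Subgroup.commutator_le]
    intro z hz t _
    rw [mem_bot, commutatorElement_eq_one_iff_mul_comm]
    apply Subtype.ext
    have h1 : (z : G) ∈ ⁅T, T⁆ := by
      have h2 : z ∈ commutator ↥T := by
        have : (⊤ : Subgroup ↥T).lowerCentralSeries 1 = commutator ↥T := Subgroup.top_lowerCentralSeries_one
        rw [← this]; exact hz
      have h3 : (commutator ↥T).map T.subtype = ⁅T, T⁆ := by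
        rw [commutator_def, map_commutator, ← MonoidHom.range_eq_map, T.range_subtype]
      rw [← h3]
      exact ⟨z, h2, rfl⟩
    rw [h.commutator_eq] at h1
    exact h.comm_Z h1 t.2
  · by_contra hlt
    have h1 : Group.nilpotencyClass ↥T ≤ 1 := by omega
    have h2 := Group.IsNilpotent.nilpotencyClass_le_one_iff.1 h1
    apply h.not_comm
    intro x hx y hy
    exact congrArg Subtype.val (h2.is_comm.comm ⟨x, hx⟩ ⟨y, hy⟩)

end AB

/-- `E/A ≅ SL₂(F)` acts on `A/C_A(E)` as on the natural module -/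
structure Side {G : Type u} [Group G] (T A E : Subgroup G) (F : Type v) [Field F] : Prop where
  le : T ≤ E
  ex : ∃ (ρ : ↥E →* Matrix.SpecialLinearGroup (Fin 2) F) (ψ : ↥A →* Multiplicative (Fin 2 → F)),
    Function.Surjective ρ ∧ (∀ e : ↥E, ρ e = 1 ↔ (e : G) ∈ A) ∧ Function.Surjective ψ ∧
      (∀ u : ↥A, ψ u = 1 → (u : G) ∈ centralizer (E : Set G)) ∧
      ∀ (e : ↥E) (u w : ↥A), (w : G) = (e : G) * (u : G) * (e : G)⁻¹ →
        Multiplicative.toAdd (ψ w) =
          ((ρ e : Matrix.SpecialLinearGroup (Fin 2) F) : Matrix (Fin 2) (Fin 2) F).mulVec (Multiplicative.toAdd (ψ u))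

section Block

theorem subgroupOf_map_subtype' {G : Type*} [Group G] {E : Subgroup G} (N : Subgroup ↥E) :
    (N.map E.subtype).subgroupOf E = N := by
  rw [subgroupOf, comap_map_eq_self_of_injective E.subtype_injective]

/-- the quotient by the kernel of a surjective homomorphism -/
noncomputable def quotEquiv {X Y : Type*} [Group X] [Group Y] {N M : Subgroup X} [N.Normal] (hNM : N = M)
    (ρ : X →* Y) (hs : Function.Surjective ρ) (hk : ∀ e : X, ρ e = 1 ↔ e ∈ M) : X ⧸ N ≃* Y :=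
  (QuotientGroup.quotientMulEquivOfEq (by
    ext e
    rw [hNM, MonoidHom.mem_ker]
    exact (hk e).symm)).trans (QuotientGroup.quotientKerEquivOfSurjective ρ hs)

variable {G : Type u} [Group G] [Finite G] {T A B E : Subgroup G} {F : Type} [Field F] [Fintype F] [CharP F 2]

/-- the transvection `w ↦ w + det(w, v) v` -/
theorem exists_trans (v : Fin 2 → F) : ∃ (g : Matrix.SpecialLinearGroup (Fin 2) F) (w : Fin 2 → F),
    (g : Matrix (Fin 2) (Fin 2) F).mulVec w - w = v := by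
  by_cases h0 : v 0 = 0
  · refine ⟨⟨!![1, 0; v 1, 1], by rw [Matrix.det_fin_two_of]; ring⟩, ![1, 0], ?_⟩
    funext i
    fin_cases i
    · simp [h0]
    · simp
  · refine ⟨⟨!![1 + v 1, v 0; -(v 1 ^ 2 / v 0), 1 - v 1], ?_⟩, ![0, 1], ?_⟩
    · rw [Matrix.det_fin_two_of]
      field_simp
      ring
    · funext i
      fin_cases i
      · simp
      · simp only [Matrix.mulVec, dotProduct, Fin.sum_univ_two, Pi.sub_apply]
        simp
        exact CharTwo.neg_eq _

variable (hAB : IsAB T A B) (hc : Nat.card A = Nat.card B) (h4 : 4 ≤ Fintype.card F) (h : Side T A E F)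

include hAB h

theorem Side.A_le : A ≤ E := hAB.A_le.trans h.le

theorem Side.normal : E ≤ normalizer (A : Set G) := by
  obtain ⟨ρ, ψ, -, hρ, -⟩ := h.ex
  intro e he
  rw [mem_normalizer_iff]
  have key : ∀ e ∈ E, ∀ a ∈ A, e * a * e⁻¹ ∈ A := by
    intro e he a ha
    have haE := Side.A_le hAB h ha
    have h1 := (hρ ⟨a, haE⟩).2 ha
    have h2 := (hρ (⟨e, he⟩ * ⟨a, haE⟩ * ⟨e, he⟩⁻¹)).1 (by rw [map_mul, map_mul, h1, map_inv]; group)
    exact h2
  intro x
  constructor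
  · intro hx
    exact key e he x hx
  · intro hx
    have := key e⁻¹ (inv_mem he) _ hx
    have e1 : e⁻¹ * (e * x * e⁻¹) * e⁻¹⁻¹ = x := by group
    rwa [e1] at this

/-- `[A, E] = A` -/
theorem Side.comm_eq : ⁅A, E⁆ = A := by
  have hn := Side.normal hAB h
  obtain ⟨ρ, ψ, hρs, hρ, hψs, hψ, heq⟩ := h.ex
  have hle : ⁅A, E⁆ ≤ A := by
    rw [Subgroup.commutator_le]
    intro a ha e he
    have h1 := (mem_normalizer_iff.1 (hn he) a⁻¹).1 (inv_mem ha)
    have h2 : ⁅a, e⁆ = a * (e * a⁻¹ * e⁻¹) := by rw [commutatorElement_def]; group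
    rw [h2]; exact mul_mem ha h1
  apply le_antisymm hle
  intro a ha
  -- `A ∩ C(E) ≤ A ∩ B = [A, B] ≤ [A, E]`
  have hZ : ∀ z ∈ A, z ∈ centralizer (E : Set G) → z ∈ ⁅A, E⁆ := by
    intro z hz hzE
    have h1 : z ∈ A ⊓ B := by
      apply hAB.mem_Z_of_comm (hAB.A_le hz)
      intro t ht
      exact mem_centralizer_iff.1 hzE t (h.le ht)
    have h2 : A ⊓ B ≤ ⁅A, E⁆ := by
      rw [← hAB.commutator_eq, Subgroup.commutator_le]
      intro x hx y hy
      obtain ⟨a1, ha1, b1, hb1, rfl⟩ := hAB.prod x hx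
      obtain ⟨a2, ha2, b2, hb2, rfl⟩ := hAB.prod y hy
      have hb1E := h.le (hAB.B_le hb1)
      have hb2E := h.le (hAB.B_le hb2)
      have c1 : ⁅a1, b2⁆ ∈ ⁅A, E⁆ := commutator_mem_commutator ha1 hb2E
      have c2 : ⁅a2, b1⁆ ∈ ⁅A, E⁆ := commutator_mem_commutator ha2 hb1E
      have z1 : ⁅a1, b2⁆ ∈ A ⊓ B := by rw [commutatorElement_def]; exact hAB.br a1 ha1 b2 hb2
      have z2 : ⁅a2, b1⁆ ∈ A ⊓ B := by rw [commutatorElement_def]; exact hAB.br a2 ha2 b1 hb1
      have e1 : ⁅a1 * b1, a2 * b2⁆ = ⁅a1, b2⁆ * ⁅a2, b1⁆⁻¹ := by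
        have f1 : a1 * b2 = ⁅a1, b2⁆ * b2 * a1 := by rw [commutatorElement_def]; group
        have f2 : a2 * b1 = ⁅a2, b1⁆ * b1 * a2 := by rw [commutatorElement_def]; group
        have f3 : b1 * a2 = ⁅a2, b1⁆⁻¹ * (a2 * b1) := by rw [commutatorElement_def]; group
        have hz1 : ∀ s ∈ T, ⁅a1, b2⁆ * s = s * ⁅a1, b2⁆ := fun s hs => hAB.comm_Z z1 hs
        have hz2 : ∀ s ∈ T, ⁅a2, b1⁆⁻¹ * s = s * ⁅a2, b1⁆⁻¹ := fun s hs => hAB.comm_Z (inv_mem z2) hs
        have g1 : a1 * b1 * (a2 * b2) = ⁅a2, b1⁆⁻¹ * (a1 * a2 * (b1 * b2)) := by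
          calc a1 * b1 * (a2 * b2) = a1 * (b1 * a2) * b2 := by group
            _ = a1 * (⁅a2, b1⁆⁻¹ * (a2 * b1)) * b2 := by rw [f3]
            _ = (a1 * ⁅a2, b1⁆⁻¹) * (a2 * b1) * b2 := by group
            _ = (⁅a2, b1⁆⁻¹ * a1) * (a2 * b1) * b2 := by rw [← hz2 a1 (hAB.A_le ha1)]
            _ = _ := by group
        have g2 : a2 * b2 * (a1 * b1) = ⁅a1, b2⁆⁻¹ * (a1 * a2 * (b1 * b2)) := by
          have f4 : b2 * a1 = ⁅a1, b2⁆⁻¹ * (a1 * b2) := by rw [commutatorElement_def]; group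
          have hz1' : ∀ s ∈ T, ⁅a1, b2⁆⁻¹ * s = s * ⁅a1, b2⁆⁻¹ := fun s hs => hAB.comm_Z (inv_mem z1) hs
          calc a2 * b2 * (a1 * b1) = a2 * (b2 * a1) * b1 := by group
            _ = a2 * (⁅a1, b2⁆⁻¹ * (a1 * b2)) * b1 := by rw [f4]
            _ = (a2 * ⁅a1, b2⁆⁻¹) * (a1 * b2) * b1 := by group
            _ = (⁅a1, b2⁆⁻¹ * a2) * (a1 * b2) * b1 := by rw [← hz1' a2 (hAB.A_le ha2)]
            _ = ⁅a1, b2⁆⁻¹ * ((a2 * a1) * (b2 * b1)) := by group
            _ = ⁅a1, b2⁆⁻¹ * ((a1 * a2) * (b1 * b2)) := by rw [hAB.A_comm a2 ha2 a1 ha1, hAB.B_comm b2 hb2 b1 hb1]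
        have g3 : ⁅a1 * b1, a2 * b2⁆ = (a1 * b1 * (a2 * b2)) * (a2 * b2 * (a1 * b1))⁻¹ := by
          rw [commutatorElement_def]; group
        rw [g3, g1, g2]
        have hcz : ⁅a1, b2⁆ * ⁅a2, b1⁆⁻¹ = ⁅a2, b1⁆⁻¹ * ⁅a1, b2⁆ :=
          hz1 _ (inv_mem (hAB.Z_le z2))
        rw [hcz]; group
      rw [e1]
      exact mul_mem c1 (inv_mem c2)
    exact h2 h1
  obtain ⟨g, w, hgw⟩ := exists_trans (Multiplicative.toAdd (ψ ⟨a, ha⟩))
  obtain ⟨e, rfl⟩ := hρs g
  obtain ⟨u, hu⟩ := hψs (Multiplicative.ofAdd w)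
  have hw : (e : G) * (u : G) * (e : G)⁻¹ ∈ A := (mem_normalizer_iff.1 (hn e.2) u).1 u.2
  have h1 := heq e u ⟨_, hw⟩ rfl
  -- `[e, u]` has the same image as `a`
  have hmem : (⁅(e : G), (u : G)⁆) ∈ ⁅A, E⁆ := by
    rw [← inv_mem_iff, commutatorElement_inv]
    exact commutator_mem_commutator u.2 e.2
  have hmemA := hle hmem
  have h2 : ψ (⟨a, ha⟩ * ⟨_, hmemA⟩⁻¹) = 1 := by
    have h3 : (⟨_, hmemA⟩ : A) = ⟨_, hw⟩ * u⁻¹ := by
      apply Subtype.ext
      show ⁅(e : G), (u : G)⁆ = (e : G) * (u : G) * (e : G)⁻¹ * (u : G)⁻¹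
      rw [commutatorElement_def]
    rw [h3, map_mul, map_inv, map_mul, map_inv]
    apply Multiplicative.toAdd.injective
    rw [toAdd_mul, toAdd_inv, toAdd_mul, toAdd_inv, toAdd_one, h1, hu, ← hgw]
    show _ + -(_ + -w) = _
    rw [toAdd_ofAdd, ← sub_eq_add_neg, ← sub_eq_add_neg]
    exact sub_self _
  have h3 := hZ _ (A.mul_mem ha (A.inv_mem hmemA)) (hψ _ h2)
  have h4 := mul_mem h3 hmem
  rwa [inv_mul_cancel_right] at h4

include h4

/-- `E` is perfect -/
theorem Side.perfect : ⁅E, E⁆ = E := by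
  have hA : A ≤ ⁅E, E⁆ := by
    rw [← Side.comm_eq hAB h]
    exact commutator_mono (Side.A_le hAB h) le_rfl
  obtain ⟨ρ, ψ, hρs, hρ, hψs, hψ, heq⟩ := h.ex
  apply le_antisymm (commutator_le_self E)
  have h1 : (commutator ↥E).map ρ = ⊤ := by
    rw [commutator_def, map_commutator, ← MonoidHom.range_eq_map, MonoidHom.range_eq_top.2 hρs,
      ← commutator_def]
    exact TwoFusion.SLTwoFacts.commutator_eq_top (by omega)
  intro e he
  have h2 : ρ ⟨e, he⟩ ∈ (commutator ↥E).map ρ := by rw [h1]; exact mem_top _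
  obtain ⟨c, hc, hce⟩ := h2
  have h3 : (c : G) ∈ ⁅E, E⁆ := by
    have h4 : (commutator ↥E).map E.subtype = ⁅E, E⁆ := by
      rw [commutator_def, map_commutator, ← MonoidHom.range_eq_map, E.range_subtype]
    rw [← h4]; exact ⟨c, hc, rfl⟩
  have h5 : ((c⁻¹ * ⟨e, he⟩ : ↥E) : G) ∈ A := (hρ _).1 (by rw [map_mul, map_inv, hce, inv_mul_cancel])
  have h6 := mul_mem h3 (hA h5)
  have h7 : (c : G) * ((c⁻¹ * ⟨e, he⟩ : ↥E) : G) = e := by
    show (c : G) * ((c : G)⁻¹ * e) = e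
    group
  rwa [h7] at h6

/-- a subgroup of `E` normalised by `E` not contained in `A` maps onto `SL₂(F)` -/
theorem Side.normal_dich {N : Subgroup G} (hN : N ≤ E) (hn : E ≤ normalizer (N : Set G)) :
    N ≤ A ∨ A ⊔ N = E := by
  have hle := Side.A_le hAB h
  obtain ⟨ρ, ψ, hρs, hρ, hψs, hψ, heq⟩ := h.ex
  have hs := OddCyclic.FFBasic.isSimpleGroup_sl2 (F := F) h4
  have hNn : (N.subgroupOf E).Normal := (normal_subgroupOf_iff_le_normalizer hN).2 hn
  have hmn : ((N.subgroupOf E).map ρ).Normal := hNn.map ρ hρs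
  rcases hmn.eq_bot_or_eq_top with h1 | h1
  · left
    intro x hx
    have h2 : ρ ⟨x, hN hx⟩ ∈ (N.subgroupOf E).map ρ := ⟨⟨x, hN hx⟩, hx, rfl⟩
    rw [h1, mem_bot] at h2
    exact (hρ _).1 h2
  · right
    apply le_antisymm (sup_le hle hN)
    intro e he
    have h2 : ρ ⟨e, he⟩ ∈ (N.subgroupOf E).map ρ := by rw [h1]; exact mem_top _
    obtain ⟨c, hc, hce⟩ := h2
    have h5 : ((⟨e, he⟩ * c⁻¹ : ↥E) : G) ∈ A := (hρ _).1 (by rw [map_mul, map_inv, hce, mul_inv_cancel])
    have h6 : ((⟨e, he⟩ * c⁻¹ : ↥E) : G) * c = e := by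
      show e * (c : G)⁻¹ * (c : G) = e
      group
    rw [← h6]
    exact mul_mem_sup h5 hc

/-- `[E, T] = E` -/
theorem Side.comm_T : ⁅E, T⁆ = E := by
  have hperf := Side.perfect hAB h4 h
  have hle : ⁅E, T⁆ ≤ E := (commutator_mono le_rfl h.le).trans (commutator_le_self E)
  have hA : A ≤ ⁅E, T⁆ := by
    rw [← Side.comm_eq hAB h, commutator_comm]
    exact commutator_mono le_rfl hAB.A_le
  have hn : E ≤ normalizer ((⁅E, T⁆ : Subgroup G) : Set G) := by
    have h1 : E ≤ normalizer ((⁅E, T⁆ : Subgroup G) : Set G) := by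
      intro e he
      rw [mem_normalizer_iff]
      have key : ∀ e ∈ E, ∀ x ∈ ⁅E, T⁆, e * x * e⁻¹ ∈ ⁅E, T⁆ := by
        intro e he x hx
        have h2 : (⁅E, T⁆).map (MulAut.conj e).toMonoidHom ≤ ⁅E, T⁆ := by
          rw [map_commutator, Subgroup.commutator_le]
          rintro _ ⟨f, hf, rfl⟩ _ ⟨t, ht, rfl⟩
          have hf' : f ∈ E := hf
          have ht' : t ∈ T := ht
          -- `[f^e, t^e] = [ef, t] [e, t]⁻¹`
          have e1 : ⁅(MulAut.conj e).toMonoidHom f, (MulAut.conj e).toMonoidHom t⁆ = ⁅e * f, t⁆ * ⁅e, t⁆⁻¹ := by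
            rw [commutatorElement_def, commutatorElement_def, commutatorElement_def]
            show e * f * e⁻¹ * (e * t * e⁻¹) * (e * f * e⁻¹)⁻¹ * (e * t * e⁻¹)⁻¹ = _
            group
          rw [e1]
          exact mul_mem (commutator_mem_commutator (mul_mem he hf') ht')
            (inv_mem (commutator_mem_commutator he ht'))
        exact h2 ⟨x, hx, rfl⟩
      intro x
      constructor
      · exact key e he x
      · intro hx
        have := key e⁻¹ (inv_mem he) _ hx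
        have e1 : e⁻¹ * (e * x * e⁻¹) * e⁻¹⁻¹ = x := by group
        rwa [e1] at this
    exact h1
  rcases Side.normal_dich hAB h4 h hle hn with h1 | h1
  · exfalso
    -- `T` is central modulo `A`
    obtain ⟨ρ, ψ, hρs, hρ, hψs, hψ, heq⟩ := h.ex
    have hs := OddCyclic.FFBasic.isSimpleGroup_sl2 (F := F) h4
    obtain ⟨b, hb, hbA⟩ := hAB.neB
    have hbT := hAB.B_le hb
    have hcen : ρ ⟨b, h.le hbT⟩ ∈ center (Matrix.SpecialLinearGroup (Fin 2) F) := by
      rw [mem_center_iff]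
      intro g
      obtain ⟨e, rfl⟩ := hρs g
      have h2 : ⁅(e : G), b⁆ ∈ A := h1 (commutator_mem_commutator e.2 hbT)
      have h3 : ρ ⁅e, (⟨b, h.le hbT⟩ : ↥E)⁆ = 1 := (hρ _).2 (by
        rw [commutatorElement_def] at h2 ⊢
        exact h2)
      rw [map_commutatorElement, commutatorElement_eq_one_iff_mul_comm] at h3
      exact h3
    have hcb : center (Matrix.SpecialLinearGroup (Fin 2) F) = ⊥ := by
      rcases (inferInstance : (center (Matrix.SpecialLinearGroup (Fin 2) F)).Normal).eq_bot_or_eq_top with h2 | h2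
      · exact h2
      · exfalso
        have h3 := TwoFusion.SLTwoFacts.commutator_eq_top (F := F) (by omega)
        have h5 : commutator (Matrix.SpecialLinearGroup (Fin 2) F) = ⊥ := by
          rw [_root_.commutator_def, eq_bot_iff, Subgroup.commutator_le]
          intro x _ y _
          rw [mem_bot, commutatorElement_eq_one_iff_mul_comm]
          exact (mem_center_iff.1 (h2 ▸ mem_top y) x)
        exact bot_ne_top (h5.symm.trans h3)
    rw [hcb, mem_bot] at hcen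
    exact hbA ((hρ _).1 hcen)
  · have h2 : A ⊔ ⁅E, T⁆ = ⁅E, T⁆ := sup_eq_right.2 hA
    rw [h2] at h1
    exact h1

/-- `O₂(E) = A` -/
theorem Side.pCore_eq : pCore 2 ↥E = A.subgroupOf E := by
  have : Fact (Nat.Prime 2) := ⟨Nat.prime_two⟩
  have hle := Side.A_le hAB h
  have hAn : (A.subgroupOf E).Normal := (normal_subgroupOf_iff_le_normalizer hle).2 (Side.normal hAB h)
  have hA2 : IsPGroup 2 ↥(A.subgroupOf E) := by
    intro x
    refine ⟨1, Subtype.ext (Subtype.ext ?_)⟩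
    rw [pow_one, pow_two]
    exact hAB.A_sq _ x.2
  have h1 : A.subgroupOf E ≤ pCore 2 ↥E := Lib.Cores.le_pCore hAn hA2
  apply le_antisymm _ h1
  have hQn : (pCore 2 ↥E).Normal := Lib.Cores.pCore_normal 2
  have hQ2 : IsPGroup 2 ↥(pCore 2 ↥E) := Lib.Cores.pCore_isPGroup 2
  have hAN : A ≤ (pCore 2 ↥E).map E.subtype := by
    intro a ha
    exact ⟨⟨a, hle ha⟩, h1 ha, rfl⟩
  have hNE : (pCore 2 ↥E).map E.subtype ≤ E := map_subtype_le _
  have hnn : E ≤ normalizer (((pCore 2 ↥E).map E.subtype : Subgroup G) : Set G) := by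
    rw [← normal_subgroupOf_iff_le_normalizer hNE, subgroupOf_map_subtype' _]
    exact hQn
  rcases Side.normal_dich hAB h4 h hNE hnn with h2 | h2
  · intro x hx
    exact h2 ⟨x, hx, rfl⟩
  · exfalso
    rw [sup_eq_right.2 hAN] at h2
    have hperf := Side.perfect hAB h4 h
    have hE2 : IsPGroup 2 ↥E := by
      have h3 : IsPGroup 2 ↥((pCore 2 ↥E).map E.subtype) := hQ2.map _
      rwa [h2] at h3
    have hnil := hE2.isNilpotent
    have hsol : Group.IsSolvable ↥E := inferInstance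
    have h5 : commutator ↥E = ⊤ := by
      apply Subgroup.map_injective E.subtype_injective
      rw [_root_.commutator_def, map_commutator, ← MonoidHom.range_eq_map, E.range_subtype]
      exact hperf
    have hbot : E = ⊥ := by
      by_contra hne
      have hnt : Nontrivial ↥E := (nontrivial_iff_ne_bot E).2 hne
      exact (Group.IsSolvable.commutator_lt_top_of_nontrivial ↥E).ne h5
    obtain ⟨a, ha, haB⟩ := hAB.neA
    have h3 := hle ha
    rw [hbot, mem_bot] at h3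
    exact haB (h3 ▸ one_mem B)

theorem Side.pCoreOf_eq : pCoreOf 2 E = A := by
  unfold pCoreOf
  rw [Side.pCore_eq hAB h4 h, subgroupOf_map_subtype, inf_eq_left.2 (Side.A_le hAB h)]

theorem Side.omega_eq : omegaOneCenter 2 (pCoreOf 2 E) = A := by
  rw [Side.pCoreOf_eq hAB h4 h]
  ext x
  rw [mem_omegaOneCenter]
  constructor
  · exact fun h1 => h1.1
  · intro hx
    exact ⟨hx, fun y hy => hAB.A_comm x hx y hy, by rw [pow_two]; exact hAB.A_sq x hx⟩

theorem Side.residual_eq : pResidualOf 2 E = E := by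
  have : Fact (Nat.Prime 2) := ⟨Nat.prime_two⟩
  have h5 : ⁅(⊤ : Subgroup ↥E), (⊤ : Subgroup ↥E)⁆ = ⊤ := by
    apply Subgroup.map_injective E.subtype_injective
    rw [map_commutator, ← MonoidHom.range_eq_map, E.range_subtype]
    exact Side.perfect hAB h4 h
  have h6 := S2906.perfect_le_pResidual (p := 2) (⊤ : Subgroup ↥E) h5
  unfold pResidualOf
  rw [top_le_iff.1 h6, ← MonoidHom.range_eq_map, E.range_subtype]

omit [Fintype F] [CharP F 2] hAB h4 h in
/-- a vector fixed by `SL₂(F)` is zero -/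
theorem eq_zero_of_fix {v : Fin 2 → F}
    (hv : ∀ g : Matrix.SpecialLinearGroup (Fin 2) F, (g : Matrix (Fin 2) (Fin 2) F).mulVec v = v) : v = 0 := by
  have h1 := hv ⟨!![1, 1; 0, 1], by rw [Matrix.det_fin_two_of]; ring⟩
  have h2 := hv ⟨!![1, 0; 1, 1], by rw [Matrix.det_fin_two_of]; ring⟩
  have e1 := congrFun h1 0
  have e2 := congrFun h2 1
  simp [Matrix.mulVec, dotProduct, Fin.sum_univ_two] at e1 e2
  funext i
  fin_cases i
  · exact e2
  · exact e1

omit [Fintype F] [CharP F 2] hAB h4 h in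
theorem eq_one_of_fix {g : Matrix.SpecialLinearGroup (Fin 2) F}
    (hg : ∀ v : Fin 2 → F, (g : Matrix (Fin 2) (Fin 2) F).mulVec v = v) : g = 1 := by
  apply Subtype.ext
  apply Matrix.ext_of_mulVec_single
  intro i
  rw [hg, Matrix.SpecialLinearGroup.coe_one, Matrix.one_mulVec]

theorem Side.omega_ne : ⁅E, omegaOneCenter 2 T⁆ ≠ ⊥ := by
  intro hbot
  have hle := Side.A_le hAB h
  have hn := Side.normal hAB h
  have hcent : ∀ z ∈ A ⊓ B, z ∈ centralizer (E : Set G) := by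
    intro z hz
    have hz' : z ∈ omegaOneCenter 2 T := mem_omegaOneCenter.2 ⟨hAB.Z_le hz, fun y hy => hAB.comm_Z hz hy, by
      rw [pow_two]; exact hAB.A_sq z (mem_inf.1 hz).1⟩
    rw [mem_centralizer_iff]
    intro e he
    have h1 : ⁅e, z⁆ ∈ ⁅E, omegaOneCenter 2 T⁆ := commutator_mem_commutator he hz'
    rw [hbot, mem_bot, commutatorElement_eq_one_iff_mul_comm] at h1
    exact h1
  obtain ⟨ρ, ψ, hρs, hρ, hψs, hψ, heq⟩ := h.ex
  have hψ' : ∀ u : A, (u : G) ∈ centralizer (E : Set G) → Multiplicative.toAdd (ψ u) = 0 := by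
    intro u hu
    apply eq_zero_of_fix
    intro g
    obtain ⟨e, rfl⟩ := hρs g
    have h1 : (e : G) * (u : G) * (e : G)⁻¹ = u := by
      rw [mem_centralizer_iff.1 hu e e.2, mul_inv_cancel_right]
    exact (heq e u u h1.symm).symm
  obtain ⟨b, hb, hbA⟩ := hAB.neB
  apply hbA
  have hbT := hAB.B_le hb
  have hbE := h.le hbT
  refine (hρ ⟨b, hbE⟩).1 (eq_one_of_fix fun v => ?_)
  obtain ⟨u, hu⟩ := hψs (Multiplicative.ofAdd v)
  have hw : b * (u : G) * b⁻¹ ∈ A := (mem_normalizer_iff.1 (hn hbE) u).1 u.2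
  have h1 := heq ⟨b, hbE⟩ u ⟨_, hw⟩ rfl
  rw [hu, toAdd_ofAdd] at h1
  rw [← h1]
  have h2 : (⟨b * (u : G) * b⁻¹, hw⟩ : A) = ⟨b * (u : G) * b⁻¹ * (u : G)⁻¹, A.mul_mem hw (A.inv_mem u.2)⟩ * u := by
    apply Subtype.ext
    show b * (u : G) * b⁻¹ = b * (u : G) * b⁻¹ * (u : G)⁻¹ * (u : G)
    group
  have h3 : b * (u : G) * b⁻¹ * (u : G)⁻¹ ∈ A ⊓ B := hAB.comm_mem hbT (hAB.A_le u.2)
  rw [h2, map_mul, toAdd_mul, hψ' _ (hcent _ h3), zero_add, hu, toAdd_ofAdd]

theorem Side.acts : ActsAsSL2OnSection F (commutator (Matrix.SpecialLinearGroup (Fin 2) F)) E A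
    (A ⊓ centralizer (E : Set G)) := by
  have hn := Side.normal hAB h
  obtain ⟨ρ, ψ, hρs, hρ, hψs, hψ, heq⟩ := h.ex
  refine ⟨hn, inf_le_left, ρ, ψ, ?_, hψs, ?_, ?_⟩
  · rw [TwoFusion.SLTwoFacts.commutator_eq_top (by omega), MonoidHom.range_eq_top]
    exact hρs
  · intro u
    constructor
    · intro hu
      exact mem_inf.2 ⟨u.2, hψ u hu⟩
    · intro hu
      apply Multiplicative.toAdd.injective
      rw [toAdd_one]
      apply eq_zero_of_fix
      intro g
      obtain ⟨e, rfl⟩ := hρs g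
      have h1 : (e : G) * (u : G) * (e : G)⁻¹ = u := by
        rw [mem_centralizer_iff.1 hu.2 e e.2, mul_inv_cancel_right]
      exact (heq e u u h1.symm).symm
  · intro e u
    have hw : (e : G) * (u : G) * (e : G)⁻¹ ∈ A := (mem_normalizer_iff.1 (hn e.2) u).1 u.2
    exact ⟨⟨_, hw⟩, rfl, heq e u ⟨_, hw⟩ rfl⟩

theorem Side.quot : ∃ _ : ((pCoreOf 2 E).subgroupOf E).Normal,
    Nonempty (↥E ⧸ (pCoreOf 2 E).subgroupOf E ≃* Matrix.SpecialLinearGroup (Fin 2) F) := by
  have hle := Side.A_le hAB h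
  have hn := Side.normal hAB h
  have hcore := Side.pCoreOf_eq hAB h4 h
  obtain ⟨ρ, ψ, hρs, hρ, hψs, hψ, heq⟩ := h.ex
  have hAn : ((pCoreOf 2 E).subgroupOf E).Normal := by
    rw [hcore]; exact (normal_subgroupOf_iff_le_normalizer hle).2 hn
  refine ⟨hAn, ⟨(QuotientGroup.quotientMulEquivOfEq ?_).trans (QuotientGroup.quotientKerEquivOfSurjective ρ hρs)⟩⟩
  ext e
  rw [hcore, mem_subgroupOf, MonoidHom.mem_ker]
  exact (hρ e).symm

theorem Side.quot' : Nonempty (↥E ⧸ pCore 2 ↥E ≃* ↥(commutator (Matrix.SpecialLinearGroup (Fin 2) F))) := by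
  have hcore := Side.pCore_eq hAB h4 h
  obtain ⟨ρ, ψ, hρs, hρ, hψs, hψ, heq⟩ := h.ex
  have htop := TwoFusion.SLTwoFacts.commutator_eq_top (F := F) (by omega)
  rw [htop]
  refine ⟨((quotEquiv hcore ρ hρs (fun e => (hρ e))).trans Subgroup.topEquiv.symm)⟩

include hc in
theorem Side.block {n : ℕ} (hF : Fintype.card F = 2 ^ n) : IsBaumannBlock 2 T E := by
  refine ⟨Side.residual_eq hAB h4 h, ?_, ?_, Side.omega_ne hAB h4 h, Or.inl ⟨F, inferInstance, inferInstance, n, hF,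
    Side.quot' hAB h4 h, ?_, Or.inl ?_⟩⟩
  · rw [baumann_eq hAB hc]
    exact Side.comm_T hAB h4 h
  · rw [Side.pCoreOf_eq hAB h4 h]
    exact Side.comm_eq hAB h
  · rw [Side.omega_eq hAB h4 h]
    exact Side.acts hAB h4 h
  · rw [Side.omega_eq hAB h4 h]
    exact Side.pCoreOf_eq hAB h4 h

end Block

end Cfsg.Agent.H276.BlockAB
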