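import Cfsg.Agent.H276.BlockL3
import Cfsg.Agent.H274.BauMain
import Cfsg.Agent.ClassicalGeometry.AutPSL.SylowU

/-!
# The end of the proof of S3052 for `L₃(q)` and `PSp₄(q)`
-/

set_option autoImplicit false

namespace Cfsg.Agent.H276.BlockEnd

open Subgroup Cfsg Cfsg.Agent.TypeL3 Cfsg.Agent.H276.BlockAB

universe u v w

/-- images under homomorphisms injective on `E` -/
theorem Side.map {K : Type u} {G : Type v} [Group K] [Group G] {T A E : Subgroup K} {F : Type w} [Field F]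
    (h : Side T A E F) (hAE : A ≤ E) (f : K →* G) (hf : ∀ x ∈ E, f x = 1 → x = 1) :
    Side (T.map f) (A.map f) (E.map f) F := by
  have hinj : ∀ x ∈ E, ∀ y ∈ E, f x = f y → x = y := by
    intro x hx y hy hxy
    have h1 := hf (x * y⁻¹) (mul_mem hx (inv_mem hy)) (by rw [map_mul, map_inv, hxy, mul_inv_cancel])
    exact mul_inv_eq_one.1 h1
  let eE : ↥E ≃* ↥(E.map f) := MulEquiv.ofBijective (f.subgroupMap E)
    ⟨fun x y hxy => Subtype.ext (hinj x x.2 y y.2 (congrArg Subtype.val hxy)), f.subgroupMap_surjective E⟩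
  let eA : ↥A ≃* ↥(A.map f) := MulEquiv.ofBijective (f.subgroupMap A)
    ⟨fun x y hxy => Subtype.ext (hinj x (hAE x.2) y (hAE y.2) (congrArg Subtype.val hxy)), f.subgroupMap_surjective A⟩
  have cE : ∀ x : ↥E, ((eE x : ↥(E.map f)) : G) = f x := fun x => rfl
  have cA : ∀ x : ↥A, ((eA x : ↥(A.map f)) : G) = f x := fun x => rfl
  obtain ⟨ρ, ψ, hρs, hρ, hψs, hψ, heq⟩ := h.ex
  refine ⟨map_mono h.le, ρ.comp eE.symm.toMonoidHom, ψ.comp eA.symm.toMonoidHom, ?_, ?_, ?_, ?_, ?_⟩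
  · exact hρs.comp eE.symm.surjective
  · intro e'
    obtain ⟨e, rfl⟩ := eE.surjective e'
    rw [MonoidHom.comp_apply]
    have h1 : eE.symm.toMonoidHom (eE e) = e := eE.symm_apply_apply e
    rw [h1, hρ, cE]
    constructor
    · intro he
      exact ⟨e, he, rfl⟩
    · rintro ⟨a, ha, hae⟩
      rw [← hinj a (hAE ha) e e.2 hae]
      exact ha
  · exact hψs.comp eA.symm.surjective
  · intro u'
    obtain ⟨u, rfl⟩ := eA.surjective u'
    rw [MonoidHom.comp_apply]
    have h1 : eA.symm.toMonoidHom (eA u) = u := eA.symm_apply_apply u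
    rw [h1, cA]
    intro hu
    have h2 := hψ u hu
    rw [mem_centralizer_iff] at h2 ⊢
    rintro _ ⟨e, he, rfl⟩
    rw [← map_mul, ← map_mul, h2 e he]
  · intro e' u' w' hw
    obtain ⟨e, rfl⟩ := eE.surjective e'
    obtain ⟨u, rfl⟩ := eA.surjective u'
    obtain ⟨w, rfl⟩ := eA.surjective w'
    rw [MonoidHom.comp_apply, MonoidHom.comp_apply, MonoidHom.comp_apply]
    have h1 : eE.symm.toMonoidHom (eE e) = e := eE.symm_apply_apply e
    have h2 : eA.symm.toMonoidHom (eA u) = u := eA.symm_apply_apply u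
    have h3 : eA.symm.toMonoidHom (eA w) = w := eA.symm_apply_apply w
    rw [h1, h2, h3]
    apply heq
    apply hinj _ (hAE w.2) _ (mul_mem (mul_mem e.2 (hAE u.2)) (inv_mem e.2))
    rw [map_mul, map_mul, map_inv]
    exact hw

/-- **The endgame**: one of the two sides is not contained in `C*(G,T)` -/
theorem concl {G : Type u} [Group G] [Finite G] {T : Sylow 2 G} [Group.IsNilpotent ↥(T : Subgroup G)]
    {A B E1 E2 L : Subgroup G} {F : Type} [Field F] [Fintype F] [CharP F 2] {n : ℕ}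
    (hC : cStarOf 2 (T : Subgroup G) ≠ ⊤) (hAB : IsAB (T : Subgroup G) A B) (hc : Nat.card A = Nat.card B)
    (hn : 3 ≤ n) (hF : Fintype.card F = 2 ^ n) (S1 : Side (T : Subgroup G) A E1 F) (S2 : Side (T : Subgroup G) B E2 F)
    (hLn : L.Normal) (hTL : (T : Subgroup G) ≤ L) (hL : L ≤ E1 ⊔ E2) :
    Cfsg.baumannSubgroupOf 2 (T : Subgroup G) = T ∧ Group.nilpotencyClass ↥(T : Subgroup G) = 2 ∧
        ∃ (E : Subgroup G) (hE : ((Cfsg.pCoreOf 2 E).subgroupOf E).Normal) (F : Type) (_ : Field F) (_ : Fintype F) (n : ℕ),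
          3 ≤ n ∧ Fintype.card F = 2 ^ n ∧ Cfsg.IsBaumannBlock 2 (T : Subgroup G) E ∧ ¬ E ≤ Cfsg.cStarOf 2 (T : Subgroup G) ∧
          Nonempty (↥E ⧸ (Cfsg.pCoreOf 2 E).subgroupOf E ≃* Matrix.SpecialLinearGroup (Fin 2) F) := by
  have : Fact (Nat.Prime 2) := ⟨Nat.prime_two⟩
  have h4 : 4 ≤ Fintype.card F := by
    rw [hF]
    calc 4 = 2 ^ 2 := by norm_num
      _ ≤ 2 ^ n := Nat.pow_le_pow_right (by norm_num) (by omega)
  refine ⟨baumann_eq hAB hc, class_two hAB, ?_⟩
  have hN : normalizer ((T : Subgroup G) : Set G) ≤ cStarOf 2 (T : Subgroup G) := by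
    have hTne : (T : Subgroup G) ≠ ⊥ := by
      intro h0
      obtain ⟨a, ha, haB⟩ := hAB.neA
      have h1 := hAB.A_le ha
      rw [h0, mem_bot] at h1
      exact haB (h1 ▸ one_mem B)
    refine le_trans ?_ (le_sup_right (a := centralizer (omegaOneCenter 2 (T : Subgroup G) : Set G)))
    rw [baumann_eq hAB hc]
    refine le_iSup (fun C : {C : Subgroup G // C ≤ (T : Subgroup G) ∧ C ≠ ⊥ ∧
      (C.subgroupOf (T : Subgroup G)).Characteristic} => normalizer ((C : Subgroup G) : Set G))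
      ⟨(T : Subgroup G), le_rfl, hTne, ?_⟩
    rw [subgroupOf_self]
    infer_instance
  have hnot : ¬ (E1 ≤ cStarOf 2 (T : Subgroup G) ∧ E2 ≤ cStarOf 2 (T : Subgroup G)) := by
    rintro ⟨h1, h2⟩
    apply hC
    rw [eq_top_iff]
    have h3 := Sylow.normalizer_sup_eq_top (T.subtype hTL)
    have h5 : ((T.subtype hTL : Sylow 2 L) : Subgroup L).map L.subtype = (T : Subgroup G) := by
      rw [Sylow.coe_subtype, subgroupOf_map_subtype, inf_eq_left.2 hTL]
    rw [h5] at h3
    rw [← h3]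
    exact sup_le hN (hL.trans (sup_le h1 h2))
  rw [not_and_or] at hnot
  rcases hnot with hE | hE
  · obtain ⟨i, e⟩ := Side.quot hAB h4 S1
    exact ⟨E1, i, F, inferInstance, inferInstance, n, hn, hF, Side.block hAB hc h4 S1 hF, hE, e⟩
  · obtain ⟨i, e⟩ := Side.quot hAB.symm h4 S2
    exact ⟨E2, i, F, inferInstance, inferInstance, n, hn, hF, Side.block hAB.symm hc.symm h4 S2 hF, hE, e⟩

/-- a Sylow 2-subgroup of a group with a normal subgroup of odd index isomorphic to `K` -/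
theorem exists_hom {G : Type u} [Group G] [Finite G] (L : Subgroup G) [L.Normal] (T : Sylow 2 G)
    (hTL : (T : Subgroup G) ≤ L) {K : Type v} [Group K] (e : L ≃* K) (S : Sylow 2 K) :
    ∃ φ : K →* G, Function.Injective φ ∧ φ.range = L ∧ (S : Subgroup K).map φ = T := by
  have : Fact (Nat.Prime 2) := ⟨Nat.prime_two⟩
  have : Finite K := Finite.of_equiv _ e.toEquiv
  obtain ⟨k, hk⟩ := MulAction.exists_smul_eq K S ((T.subtype hTL).mapSurjective (f := e.toMonoidHom) e.surjective)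
  let φ : K →* G := (L.subtype.comp e.symm.toMonoidHom).comp (MulAut.conj k).toMonoidHom
  refine ⟨φ, ?_, ?_, ?_⟩
  · exact (L.subtype_injective.comp e.symm.injective).comp (MulAut.conj k).injective
  · rw [MonoidHom.range_comp, MonoidHom.range_eq_top.2 (MulAut.conj k).surjective, ← MonoidHom.range_eq_map,
      MonoidHom.range_comp, MonoidHom.range_eq_top.2 e.symm.surjective, ← MonoidHom.range_eq_map, L.range_subtype]
  · rw [← map_map, ← map_map]
    have h1 : (S : Subgroup K).map (MulAut.conj k).toMonoidHom =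
        ((T.subtype hTL : Sylow 2 L) : Subgroup L).map e.toMonoidHom := congrArg (fun X : Sylow 2 K => (X : Subgroup K)) hk
    rw [h1]
    have h2 : (((T.subtype hTL : Sylow 2 L) : Subgroup L).map e.toMonoidHom).map e.symm.toMonoidHom =
        ((T.subtype hTL : Sylow 2 L) : Subgroup L) := by
      rw [map_map]
      have h3 : e.symm.toMonoidHom.comp e.toMonoidHom = MonoidHom.id L := by
        ext x
        exact congrArg Subtype.val (e.symm_apply_apply x)
      rw [h3, map_id]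
    rw [h2, Sylow.coe_subtype, subgroupOf_map_subtype, inf_eq_left.2 hTL]

section L3

open Cfsg.Agent.H276.BlockL3 Cfsg.Agent.SylowL.UT Cfsg.Agent.SylowL.SylowPSL
open Cfsg.Agent.ClassicalGeometry.AutPSL.SylowU Cfsg.Agent.ClassicalGeometry.AutPSL.Root

/-- **`L₃(q)`** -/
theorem concl_L3 {G : Type u} [Group G] [Finite G] {T : Sylow 2 G} [Group.IsNilpotent ↥(T : Subgroup G)]
    {L : Subgroup G} {F : Type} [Field F] [Fintype F] [CharP F 2] {n : ℕ}
    (hC : cStarOf 2 (T : Subgroup G) ≠ ⊤) (hn : 3 ≤ n) (hF : Fintype.card F = 2 ^ n)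
    (hLn : L.Normal) (hTL : (T : Subgroup G) ≤ L) (e : L ≃* Matrix.ProjectiveSpecialLinearGroup (Fin 3) F) :
    Cfsg.baumannSubgroupOf 2 (T : Subgroup G) = T ∧ Group.nilpotencyClass ↥(T : Subgroup G) = 2 ∧
        ∃ (E : Subgroup G) (hE : ((Cfsg.pCoreOf 2 E).subgroupOf E).Normal) (F : Type) (_ : Field F) (_ : Fintype F) (n : ℕ),
          3 ≤ n ∧ Fintype.card F = 2 ^ n ∧ Cfsg.IsBaumannBlock 2 (T : Subgroup G) E ∧ ¬ E ≤ Cfsg.cStarOf 2 (T : Subgroup G) ∧
          Nonempty (↥E ⧸ (Cfsg.pCoreOf 2 E).subgroupOf E ≃* Matrix.SpecialLinearGroup (Fin 2) F) := by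
  have : Fact (Nat.Prime 2) := ⟨Nat.prime_two⟩
  obtain ⟨S, hS⟩ := exists_sylow (F := F) 3 2
  obtain ⟨φ, hφ, hr, hT⟩ := exists_hom L T hTL e S
  let f : SL3 F →* G := φ.comp pr
  have hU : ((⊤ : Subgroup (UT 3 F)).map toSL).map f = T := by
    rw [← hT, hS, ← range_toSL, MonoidHom.range_eq_map, ← map_map]
  -- scalars
  have hker : ∀ x : SL3 F, f x = 1 → ∀ i j : Fin 3, i ≠ j → x i j = 0 := by
    intro x hx i j hij
    have h1 : pr x = 1 := hφ (hx.trans (map_one φ).symm)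
    have h2 : x ∈ center (SL3 F) := (QuotientGroup.eq_one_iff x).1 h1
    rw [Matrix.SpecialLinearGroup.mem_center_iff] at h2
    obtain ⟨r, -, hr⟩ := h2
    rw [← hr, Matrix.scalar_apply, Matrix.diagonal_apply_ne _ hij]
  have hker' : ∀ x : SL3 F, f x = 1 → ∀ i j : Fin 3, x i i = x j j := by
    intro x hx i j
    have h1 : pr x = 1 := hφ (hx.trans (map_one φ).symm)
    have h2 : x ∈ center (SL3 F) := (QuotientGroup.eq_one_iff x).1 h1
    rw [Matrix.SpecialLinearGroup.mem_center_iff] at h2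
    obtain ⟨r, -, hr⟩ := h2
    rw [← hr, Matrix.scalar_apply, Matrix.diagonal_apply_eq, Matrix.diagonal_apply_eq]
  have hone : ∀ x : SL3 F, f x = 1 → (∃ i : Fin 3, x i i = 1) → x = 1 := by
    rintro x hx ⟨i, hi⟩
    apply Subtype.ext
    ext j k
    by_cases hjk : j = k
    · subst hjk
      rw [hker' x hx j i, hi, Matrix.SpecialLinearGroup.coe_one, Matrix.one_apply_eq]
    · rw [hker x hx j k hjk, Matrix.SpecialLinearGroup.coe_one, Matrix.one_apply_ne hjk]
  have h1 : ∀ x ∈ E1 F, f x = 1 → x = 1 := fun x hx hfx => hone x hfx ⟨2, hx.2.2⟩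
  have h2 : ∀ x ∈ E2 F, f x = 1 → x = 1 := fun x hx hfx => hone x hfx ⟨0, hx.2.2⟩
  have hmod := isL3_model (F := F)
  have hAB0 := hmod.toIsAB.map (f.comp toSL) (fun x _ hx =>
    toSL_injective ((h1 _ (U_le_E1 ⟨x, mem_top _, rfl⟩) hx).trans (map_one toSL).symm))
  have hcA := hmod.map (f.comp toSL) (fun x _ hx =>
    toSL_injective ((h1 _ (U_le_E1 ⟨x, mem_top _, rfl⟩) hx).trans (map_one toSL).symm))
  have hm : ∀ X : Subgroup (UT 3 F), X.map (f.comp toSL) = (X.map toSL).map f := fun X => (map_map _ _ _).symm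
  rw [hm, hm, hm, hU] at hAB0 hcA
  have s1 := Side.map (side1 (F := F)) ((map_mono le_top).trans U_le_E1) f h1
  have s2 := Side.map (side2 (F := F)) ((map_mono le_top).trans U_le_E2) f h2
  rw [hU] at s1 s2
  refine concl hC hAB0 (hcA.card_A.trans hcA.card_B.symm) hn hF s2 s1 hLn hTL ?_
  have hs : Function.Surjective (pr : SL3 F →* Matrix.ProjectiveSpecialLinearGroup (Fin 3) F) :=
    QuotientGroup.mk'_surjective _
  rw [← Subgroup.map_sup, sup_comm, sup_eq_top, ← MonoidHom.range_eq_map, MonoidHom.range_comp,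
    MonoidHom.range_eq_top.2 hs, ← MonoidHom.range_eq_map, hr]

end L3

end Cfsg.Agent.H276.BlockEnd
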