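import Cfsg.Agent.H276.BlockAB
import Cfsg.Agent.TypeSpFour.Model
import Cfsg.Agent.S0765

/-!
# The two parabolic subgroups `F³ : SL₂(F)` of `Sp₄(F)`, `F` of characteristic 2
-/

set_option autoImplicit false
set_option linter.unusedSectionVars false
set_option linter.unusedSimpArgs false

namespace Cfsg.Agent.H276.BlockSp4

open Subgroup Matrix Cfsg Cfsg.Agent.TypeL3 Cfsg.Agent.H276.BlockAB
open Cfsg.Agent.TypeSpFour.Model Cfsg.Agent.TypeSpFour.Coords

universe u v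

/-- `Sp₄(F)` -/
abbrev Sp4 (F : Type u) [Field F] := symplecticGroup (Fin 2) F

/-- `SL₂(F)` -/
abbrev SL2 (F : Type u) [Field F] := Matrix.SpecialLinearGroup (Fin 2) F

/-- matrices -/
abbrev M4 (F : Type u) := Matrix (Fin 2 ⊕ Fin 2) (Fin 2 ⊕ Fin 2) F

variable {F : Type u} [Field F]

/-- the blocks of an element -/
theorem exists_blocks (g : Sp4 F) : ∃ A B C D : Matrix (Fin 2) (Fin 2) F,
    (g : M4 F) = fromBlocks A B C D ∧ Aᵀ * C = Cᵀ * A ∧ Bᵀ * D = Dᵀ * B ∧ Aᵀ * D - Cᵀ * B = 1 := by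
  have h := g.2
  rw [← fromBlocks_toBlocks (g : M4 F)] at h
  exact ⟨_, _, _, _, (fromBlocks_toBlocks (g : M4 F)).symm, SymplecticGroup.fromBlocks_mem_iff.1 h⟩

theorem inv_blocks (g : Sp4 F) {A B C D : Matrix (Fin 2) (Fin 2) F} (h : (g : M4 F) = fromBlocks A B C D) :
    ((g⁻¹ : Sp4 F) : M4 F) = fromBlocks Dᵀ (-Bᵀ) (-Cᵀ) Aᵀ := by
  rw [SymplecticGroup.coe_inv, h, J, fromBlocks_transpose, ← neg_one_smul F, fromBlocks_smul, fromBlocks_multiply,
    fromBlocks_multiply]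
  simp

/-- the stabilizer of the line... of the isotropic plane, acting as `SL₂` on it -/
def E1 (F : Type u) [Field F] : Subgroup (Sp4 F) where
  carrier := {g | (g : M4 F).toBlocks₂₁ = 0 ∧ (g : M4 F).toBlocks₁₁.det = 1}
  one_mem' := by
    refine ⟨?_, ?_⟩
    · ext i j
      simp [toBlocks₂₁]
    · have : (((1 : Sp4 F) : M4 F)).toBlocks₁₁ = 1 := by
        ext i j
        simp [toBlocks₁₁, Matrix.one_apply]
      rw [this, det_one]
  mul_mem' := by
    rintro g h ⟨g1, g2⟩ ⟨h1, h2⟩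
    have e : ((g * h : Sp4 F) : M4 F) = (g : M4 F) * (h : M4 F) := rfl
    rw [← fromBlocks_toBlocks (g : M4 F), ← fromBlocks_toBlocks (h : M4 F), fromBlocks_multiply, g1, h1] at e
    refine ⟨?_, ?_⟩
    · show ((g * h : Sp4 F) : M4 F).toBlocks₂₁ = 0
      rw [e, toBlocks_fromBlocks₂₁]
      simp
    · show ((g * h : Sp4 F) : M4 F).toBlocks₁₁.det = 1
      rw [e, toBlocks_fromBlocks₁₁]
      simp [g2, h2]
  inv_mem' := by
    rintro g ⟨g1, g2⟩
    obtain ⟨A, B, C, D, e, h1, h2, h3⟩ := exists_blocks g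
    rw [e, toBlocks_fromBlocks₂₁] at g1
    rw [e, toBlocks_fromBlocks₁₁] at g2
    subst g1
    have e' := inv_blocks g e
    refine ⟨?_, ?_⟩
    · show ((g⁻¹ : Sp4 F) : M4 F).toBlocks₂₁ = 0
      rw [e', toBlocks_fromBlocks₂₁]
      simp
    · show ((g⁻¹ : Sp4 F) : M4 F).toBlocks₁₁.det = 1
      rw [e', toBlocks_fromBlocks₁₁, det_transpose]
      have h4 := congrArg Matrix.det h3
      simp only [transpose_zero, Matrix.zero_mul, sub_zero, det_mul, det_transpose, g2, one_mul, det_one] at h4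
      exact h4

/-- the vector `e_{inl 0}` -/
def e0 (F : Type u) [Field F] : Fin 2 ⊕ Fin 2 → F := Pi.single (Sum.inl 0) 1

/-- the stabilizer of a vector -/
def E2 (F : Type u) [Field F] : Subgroup (Sp4 F) where
  carrier := {g | (g : M4 F).mulVec (e0 F) = e0 F}
  one_mem' := Matrix.one_mulVec _
  mul_mem' := by
    intro g h hg hh
    show ((g : M4 F) * (h : M4 F)).mulVec (e0 F) = e0 F
    rw [← Matrix.mulVec_mulVec]
    have h1 : (h : M4 F).mulVec (e0 F) = e0 F := hh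
    rw [h1]; exact hg
  inv_mem' := by
    intro g hg
    have h1 : (g : M4 F).mulVec (e0 F) = e0 F := hg
    have h2 : ((g⁻¹ : Sp4 F) : M4 F) * (g : M4 F) = 1 := congrArg Subtype.val (inv_mul_cancel g)
    show ((g⁻¹ : Sp4 F) : M4 F).mulVec (e0 F) = e0 F
    conv_lhs => rw [← h1]
    rw [Matrix.mulVec_mulVec, h2, Matrix.one_mulVec]

theorem mem_E1 {g : Sp4 F} {A B C D : Matrix (Fin 2) (Fin 2) F} (h : (g : M4 F) = fromBlocks A B C D) :
    g ∈ E1 F ↔ C = 0 ∧ A.det = 1 := by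
  show ((g : M4 F).toBlocks₂₁ = 0 ∧ (g : M4 F).toBlocks₁₁.det = 1) ↔ _
  rw [h, toBlocks_fromBlocks₂₁, toBlocks_fromBlocks₁₁]

theorem mem_E2 {g : Sp4 F} {A B C D : Matrix (Fin 2) (Fin 2) F} (h : (g : M4 F) = fromBlocks A B C D) :
    g ∈ E2 F ↔ A 0 0 = 1 ∧ A 1 0 = 0 ∧ C 0 0 = 0 ∧ C 1 0 = 0 := by
  have h1 : g ∈ E2 F ↔ (g : M4 F).mulVec (e0 F) = e0 F := Iff.rfl
  rw [h1, h, e0, Matrix.mulVec_single_one]
  constructor
  · intro h2
    have f1 := congrFun h2 (Sum.inl 0)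
    have f2 := congrFun h2 (Sum.inl 1)
    have f3 := congrFun h2 (Sum.inr 0)
    have f4 := congrFun h2 (Sum.inr 1)
    simp [Matrix.col] at f1 f2 f3 f4
    exact ⟨f1, f2, f3, f4⟩
  · rintro ⟨h1, h2, h3, h4⟩
    funext i
    rcases i with i | i <;> fin_cases i <;> simp [Matrix.col, h1, h2, h3, h4]

/-- the rows of an element of `E2` -/
theorem E2_row {g : Sp4 F} (hg : g ∈ E2 F) {A B C D : Matrix (Fin 2) (Fin 2) F} (h : (g : M4 F) = fromBlocks A B C D) :
    D 0 0 = 1 ∧ D 0 1 = 0 ∧ C 0 0 = 0 ∧ C 0 1 = 0 := by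
  have h1 := (mem_E2 (inv_blocks g h)).1 (inv_mem hg)
  simp only [transpose_apply, Matrix.neg_apply, neg_eq_zero] at h1
  exact h1

/-! ### Unipotent elements -/

theorem coe_up (p r s : F) : ((up p r s : Sp4 F) : M4 F) = fromBlocks 1 !![p, r; r, s] 0 1 := rfl
theorem coe_lev (t : F) : ((lev t : Sp4 F) : M4 F) = fromBlocks !![1, t; 0, 1] 0 0 !![1, 0; -t, 1] := rfl

theorem coe_lev_up (t p r s : F) : ((lev t * up p r s : Sp4 F) : M4 F) =
    fromBlocks !![1, t; 0, 1] !![p + t * r, r + t * s; r, s] 0 !![1, 0; -t, 1] := by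
  show ((lev t : Sp4 F) : M4 F) * ((up p r s : Sp4 F) : M4 F) = _
  rw [coe_up, coe_lev, fromBlocks_multiply]
  congr 1
  · simp
  · ext i j
    fin_cases i <;> fin_cases j <;> simp [Matrix.mul_apply, Fin.sum_univ_two]
  · simp
  · simp

theorem up_mem_E1 (p r s : F) : up p r s ∈ E1 F := (mem_E1 (coe_up p r s)).2 ⟨rfl, det_one⟩

theorem lev_mem_E1 (t : F) : lev t ∈ E1 F := (mem_E1 (coe_lev t)).2 ⟨rfl, by rw [det_fin_two_of]; ring⟩

theorem up_mem_E2 (p r s : F) : up p r s ∈ E2 F := (mem_E2 (coe_up p r s)).2 (by simp)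

theorem lev_mem_E2 (t : F) : lev t ∈ E2 F := (mem_E2 (coe_lev t)).2 (by simp)

/-- an element with blocks `1 B 0 D` is upper unitriangular -/
theorem eq_up {g : Sp4 F} {B D : Matrix (Fin 2) (Fin 2) F} (h : (g : M4 F) = fromBlocks 1 B 0 D) :
    g = up (B 0 0) (B 0 1) (B 1 1) := by
  have h1 := g.2
  rw [h, SymplecticGroup.fromBlocks_mem_iff] at h1
  obtain ⟨-, h2, h3⟩ := h1
  have hD : D = 1 := by simpa using h3
  subst hD
  have hB : Bᵀ = B := by simpa using h2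
  apply Subtype.ext
  rw [h, coe_up]
  congr 1
  ext i j
  fin_cases i <;> fin_cases j
  · rfl
  · rfl
  · exact congrFun (congrFun hB 0) 1
  · rfl

section Coord

variable (h2 : (2 : F) = 0) (h4 : ∃ l : F, l ≠ 0 ∧ l ≠ 1)

theorem mem_AA' {g : Sp4 F} : g ∈ (coords h2 h4).AA ↔ ∃ p r s, g = up p r s := by
  rw [Coords.mem_AA]
  constructor
  · rintro ⟨a, γ, δ, rfl⟩
    rw [up_mul, up_mul]
    exact ⟨_, _, _, rfl⟩
  · rintro ⟨p, r, s, rfl⟩
    refine ⟨s, r, p, ?_⟩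
    rw [up_mul, up_mul]
    simp

theorem mem_BB' {g : Sp4 F} : g ∈ (coords h2 h4).BB ↔ ∃ t p r, g = lev t * up p r 0 := by
  rw [Coords.mem_BB]
  constructor
  · rintro ⟨a, γ, δ, rfl⟩
    rw [up_mul]
    exact ⟨a, δ, γ, by simp⟩
  · rintro ⟨t, p, r, rfl⟩
    refine ⟨t, r, p, ?_⟩
    rw [up_mul]
    simp

theorem SS_le_E1 : (coords h2 h4).SS ≤ E1 F := by
  rintro _ ⟨a, t, γ, δ, rfl⟩
  exact mul_mem (mul_mem (up_mem_E1 _ _ _) (lev_mem_E1 _)) (mul_mem (up_mem_E1 _ _ _) (up_mem_E1 _ _ _))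

theorem SS_le_E2 : (coords h2 h4).SS ≤ E2 F := by
  rintro _ ⟨a, t, γ, δ, rfl⟩
  exact mul_mem (mul_mem (up_mem_E2 _ _ _) (lev_mem_E2 _)) (mul_mem (up_mem_E2 _ _ _) (up_mem_E2 _ _ _))

end Coord

/-! ### The homomorphisms -/

/-- the block of `E1` -/
def blk1 (F : Type u) [Field F] : ↥(E1 F) →* SL2 F :=
  MonoidHom.mk' (fun g => ⟨((g : Sp4 F) : M4 F).toBlocks₁₁, g.2.2⟩) (by
    rintro ⟨g, g1, g2⟩ ⟨h, h1, h2⟩
    apply Subtype.ext
    show ((g : M4 F) * (h : M4 F)).toBlocks₁₁ = (g : M4 F).toBlocks₁₁ * (h : M4 F).toBlocks₁₁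
    have e : (g : M4 F) * (h : M4 F) = fromBlocks (g : M4 F).toBlocks₁₁ (g : M4 F).toBlocks₁₂ (g : M4 F).toBlocks₂₁
      (g : M4 F).toBlocks₂₂ * fromBlocks (h : M4 F).toBlocks₁₁ (h : M4 F).toBlocks₁₂ (h : M4 F).toBlocks₂₁
      (h : M4 F).toBlocks₂₂ := by rw [fromBlocks_toBlocks, fromBlocks_toBlocks]
    rw [e, fromBlocks_multiply, toBlocks_fromBlocks₁₁, h1, Matrix.mul_zero, add_zero])

theorem blk1_apply (g : ↥(E1 F)) {A B C D : Matrix (Fin 2) (Fin 2) F} (h : ((g : Sp4 F) : M4 F) = fromBlocks A B C D) :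
    ((blk1 F g : SL2 F) : Matrix (Fin 2) (Fin 2) F) = A := by
  show ((g : Sp4 F) : M4 F).toBlocks₁₁ = A
  rw [h, toBlocks_fromBlocks₁₁]

/-- the block of `E2` -/
def rho2 (F : Type u) [Field F] : ↥(E2 F) →* SL2 F :=
  MonoidHom.mk' (fun g => ⟨!![((g : Sp4 F) : M4 F) (Sum.inl 1) (Sum.inl 1), ((g : Sp4 F) : M4 F) (Sum.inl 1) (Sum.inr 1);
      ((g : Sp4 F) : M4 F) (Sum.inr 1) (Sum.inl 1), ((g : Sp4 F) : M4 F) (Sum.inr 1) (Sum.inr 1)], by
    obtain ⟨g, hg⟩ := g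
    obtain ⟨A, B, C, D, h, h1, h2, h3⟩ := exists_blocks g
    obtain ⟨d1, d2, c1, c2⟩ := E2_row hg h
    show Matrix.det !![(g : M4 F) (Sum.inl 1) (Sum.inl 1), (g : M4 F) (Sum.inl 1) (Sum.inr 1);
      (g : M4 F) (Sum.inr 1) (Sum.inl 1), (g : M4 F) (Sum.inr 1) (Sum.inr 1)] = 1
    rw [det_fin_two_of, h]
    have f := congrFun (congrFun h3 1) 1
    simp [Matrix.mul_apply, Fin.sum_univ_two, c2, d2] at f
    simp only [fromBlocks_apply₁₁, fromBlocks_apply₁₂, fromBlocks_apply₂₁, fromBlocks_apply₂₂]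
    linear_combination f⟩) (by
    rintro ⟨g, hg⟩ ⟨k, hk⟩
    obtain ⟨A, B, C, D, h, -⟩ := exists_blocks g
    obtain ⟨A', B', C', D', h', -⟩ := exists_blocks k
    obtain ⟨a1, a2, b1, b2⟩ := (mem_E2 h).1 hg
    obtain ⟨d1, d2, c1, c2⟩ := E2_row hg h
    obtain ⟨d1', d2', c1', c2'⟩ := E2_row hk h'
    apply Subtype.ext
    show !![((g : M4 F) * (k : M4 F)) (Sum.inl 1) (Sum.inl 1), ((g : M4 F) * (k : M4 F)) (Sum.inl 1) (Sum.inr 1);
      ((g : M4 F) * (k : M4 F)) (Sum.inr 1) (Sum.inl 1), ((g : M4 F) * (k : M4 F)) (Sum.inr 1) (Sum.inr 1)] =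
      !![(g : M4 F) (Sum.inl 1) (Sum.inl 1), (g : M4 F) (Sum.inl 1) (Sum.inr 1);
      (g : M4 F) (Sum.inr 1) (Sum.inl 1), (g : M4 F) (Sum.inr 1) (Sum.inr 1)] *
      !![(k : M4 F) (Sum.inl 1) (Sum.inl 1), (k : M4 F) (Sum.inl 1) (Sum.inr 1);
      (k : M4 F) (Sum.inr 1) (Sum.inl 1), (k : M4 F) (Sum.inr 1) (Sum.inr 1)]
    rw [h, h', Matrix.mul_fin_two, fromBlocks_multiply]
    simp [Matrix.mul_apply, Fin.sum_univ_two, a2, b2, c2', d2'])

theorem rho2_apply (g : ↥(E2 F)) {A B C D : Matrix (Fin 2) (Fin 2) F} (h : ((g : Sp4 F) : M4 F) = fromBlocks A B C D) :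
    ((rho2 F g : SL2 F) : Matrix (Fin 2) (Fin 2) F) = !![A 1 1, B 1 1; C 1 1, D 1 1] := by
  show !![((g : Sp4 F) : M4 F) (Sum.inl 1) (Sum.inl 1), ((g : Sp4 F) : M4 F) (Sum.inl 1) (Sum.inr 1);
      ((g : Sp4 F) : M4 F) (Sum.inr 1) (Sum.inl 1), ((g : Sp4 F) : M4 F) (Sum.inr 1) (Sum.inr 1)] = _
  rw [h]
  rfl

section Coord

variable (h2 : (2 : F) = 0) (h4 : ∃ l : F, l ≠ 0 ∧ l ≠ 1)

/-- the coordinates on `A` -/
def psi1 : ↥(coords h2 h4).AA →* Multiplicative (Fin 2 → F) :=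
  MonoidHom.mk' (fun g => Multiplicative.ofAdd ![((g : Sp4 F) : M4 F) (Sum.inl 0) (Sum.inr 0),
    ((g : Sp4 F) : M4 F) (Sum.inl 1) (Sum.inr 1)]) (by
    rintro ⟨g, hg⟩ ⟨k, hk⟩
    obtain ⟨p, r, s, rfl⟩ := (mem_AA' h2 h4).1 hg
    obtain ⟨p', r', s', rfl⟩ := (mem_AA' h2 h4).1 hk
    rw [← ofAdd_add]
    congr 1
    show ![((up p r s * up p' r' s' : Sp4 F) : M4 F) (Sum.inl 0) (Sum.inr 0),
      ((up p r s * up p' r' s' : Sp4 F) : M4 F) (Sum.inl 1) (Sum.inr 1)] =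
      ![((up p r s : Sp4 F) : M4 F) (Sum.inl 0) (Sum.inr 0), ((up p r s : Sp4 F) : M4 F) (Sum.inl 1) (Sum.inr 1)] +
      ![((up p' r' s' : Sp4 F) : M4 F) (Sum.inl 0) (Sum.inr 0), ((up p' r' s' : Sp4 F) : M4 F) (Sum.inl 1) (Sum.inr 1)]
    rw [up_mul, coe_up, coe_up, coe_up]
    funext i
    fin_cases i <;> simp)

theorem psi1_apply {g : Sp4 F} (hg : g ∈ (coords h2 h4).AA) {A B C D : Matrix (Fin 2) (Fin 2) F}
    (h : (g : M4 F) = fromBlocks A B C D) : Multiplicative.toAdd (psi1 h2 h4 ⟨g, hg⟩) = ![B 0 0, B 1 1] := by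
  show ![(g : M4 F) (Sum.inl 0) (Sum.inr 0), (g : M4 F) (Sum.inl 1) (Sum.inr 1)] = _
  rw [h]
  rfl

/-- the coordinates on `B` -/
def psi2 : ↥(coords h2 h4).BB →* Multiplicative (Fin 2 → F) :=
  MonoidHom.mk' (fun g => Multiplicative.ofAdd ![((g : Sp4 F) : M4 F) (Sum.inl 1) (Sum.inr 0),
    ((g : Sp4 F) : M4 F) (Sum.inr 1) (Sum.inr 0)]) (by
    rintro ⟨g, hg⟩ ⟨k, hk⟩
    obtain ⟨t, p, r, rfl⟩ := (mem_BB' h2 h4).1 hg
    obtain ⟨t', p', r', rfl⟩ := (mem_BB' h2 h4).1 hk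
    rw [← ofAdd_add]
    congr 1
    show ![(((lev t * up p r 0 : Sp4 F) : M4 F) * ((lev t' * up p' r' 0 : Sp4 F) : M4 F)) (Sum.inl 1) (Sum.inr 0),
      (((lev t * up p r 0 : Sp4 F) : M4 F) * ((lev t' * up p' r' 0 : Sp4 F) : M4 F)) (Sum.inr 1) (Sum.inr 0)] =
      ![((lev t * up p r 0 : Sp4 F) : M4 F) (Sum.inl 1) (Sum.inr 0), ((lev t * up p r 0 : Sp4 F) : M4 F) (Sum.inr 1) (Sum.inr 0)] +
      ![((lev t' * up p' r' 0 : Sp4 F) : M4 F) (Sum.inl 1) (Sum.inr 0), ((lev t' * up p' r' 0 : Sp4 F) : M4 F) (Sum.inr 1) (Sum.inr 0)]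
    rw [coe_lev_up, coe_lev_up, fromBlocks_multiply]
    funext i
    fin_cases i
    · simp [Matrix.mul_apply, Fin.sum_univ_two, add_comm]
    · simp [Matrix.mul_apply, Fin.sum_univ_two, add_comm])

theorem psi2_apply {g : Sp4 F} (hg : g ∈ (coords h2 h4).BB) {A B C D : Matrix (Fin 2) (Fin 2) F}
    (h : (g : M4 F) = fromBlocks A B C D) : Multiplicative.toAdd (psi2 h2 h4 ⟨g, hg⟩) = ![B 1 0, D 1 0] := by
  show ![(g : M4 F) (Sum.inl 1) (Sum.inr 0), (g : M4 F) (Sum.inr 1) (Sum.inr 0)] = _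
  rw [h]
  rfl

end Coord

/-- Levi elements -/
def levi (m : SL2 F) : Sp4 F :=
  ⟨fromBlocks (m : Matrix (Fin 2) (Fin 2) F) 0 0 ((m⁻¹ : SL2 F) : Matrix (Fin 2) (Fin 2) F)ᵀ, by
    rw [SymplecticGroup.fromBlocks_mem_iff]
    refine ⟨by simp, by simp, ?_⟩
    have h : ((m⁻¹ : SL2 F) : Matrix (Fin 2) (Fin 2) F) * (m : Matrix (Fin 2) (Fin 2) F) = 1 :=
      congrArg Subtype.val (inv_mul_cancel m)
    rw [← transpose_mul, h]
    simp⟩

theorem coe_levi (m : SL2 F) : ((levi m : Sp4 F) : M4 F) =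
    fromBlocks (m : Matrix (Fin 2) (Fin 2) F) 0 0 ((m⁻¹ : SL2 F) : Matrix (Fin 2) (Fin 2) F)ᵀ := rfl

theorem levi_mem (m : SL2 F) : levi m ∈ E1 F := (mem_E1 (coe_levi m)).2 ⟨rfl, m.2⟩

/-- the other Levi elements -/
def levi2 (m : SL2 F) : Sp4 F :=
  ⟨fromBlocks !![1, 0; 0, (m : Matrix (Fin 2) (Fin 2) F) 0 0] !![0, 0; 0, (m : Matrix (Fin 2) (Fin 2) F) 0 1]
    !![0, 0; 0, (m : Matrix (Fin 2) (Fin 2) F) 1 0] !![1, 0; 0, (m : Matrix (Fin 2) (Fin 2) F) 1 1], by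
    rw [SymplecticGroup.fromBlocks_mem_iff]
    have h := m.2
    rw [det_fin_two] at h
    refine ⟨?_, ?_, ?_⟩
    · ext i j
      fin_cases i <;> fin_cases j <;> simp [Matrix.mul_apply, Fin.sum_univ_two, mul_comm]
    · ext i j
      fin_cases i <;> fin_cases j <;> simp [Matrix.mul_apply, Fin.sum_univ_two, mul_comm]
    · ext i j
      fin_cases i <;> fin_cases j <;> simp [Matrix.mul_apply, Fin.sum_univ_two]
      linear_combination h⟩

theorem coe_levi2 (m : SL2 F) : ((levi2 m : Sp4 F) : M4 F) =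
    fromBlocks !![1, 0; 0, (m : Matrix (Fin 2) (Fin 2) F) 0 0] !![0, 0; 0, (m : Matrix (Fin 2) (Fin 2) F) 0 1]
    !![0, 0; 0, (m : Matrix (Fin 2) (Fin 2) F) 1 0] !![1, 0; 0, (m : Matrix (Fin 2) (Fin 2) F) 1 1] := rfl

theorem levi2_mem (m : SL2 F) : levi2 m ∈ E2 F := (mem_E2 (coe_levi2 m)).2 (by simp)

/-- conjugation of `up p r s` by an element of `E1` -/
theorem conj_up {e : Sp4 F} {A B D : Matrix (Fin 2) (Fin 2) F} (h : (e : M4 F) = fromBlocks A B 0 D)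
    {p r s p' r' s' : F} (hc : up p' r' s' = e * up p r s * e⁻¹) :
    !![p', r'; r', s'] = A * !![p, r; r, s] * Aᵀ := by
  have h3 : Aᵀ * D = 1 := by
    have h1 := e.2
    rw [h, SymplecticGroup.fromBlocks_mem_iff] at h1
    simpa using h1.2.2
  have h4 : D * Aᵀ = 1 := mul_eq_one_comm.1 h3
  have h5 : up p' r' s' * e = e * up p r s := by rw [hc, inv_mul_cancel_right]
  have h6 : fromBlocks 1 !![p', r'; r', s'] 0 1 * fromBlocks A B 0 D = fromBlocks A B 0 D * fromBlocks 1 !![p, r; r, s] 0 1 := by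
    have := congrArg (fun x : Sp4 F => (x : M4 F)) h5
    rw [← h]
    exact this
  rw [fromBlocks_multiply, fromBlocks_multiply, fromBlocks_inj] at h6
  have h7 : B + !![p', r'; r', s'] * D = A * !![p, r; r, s] + B := by simpa using h6.2.1
  have h8 : !![p', r'; r', s'] * D = A * !![p, r; r, s] := by
    have := sub_eq_zero.2 h7
    apply sub_eq_zero.1
    rw [← this]; abel
  rw [← h8, Matrix.mul_assoc, h4, Matrix.mul_one]

theorem side1 [Finite F] [CharP F 2] (h2 : (2 : F) = 0) (h4 : ∃ l : F, l ≠ 0 ∧ l ≠ 1) :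
    Side (coords h2 h4).SS (coords h2 h4).AA (E1 F) F := by
  have : Fact (Nat.Prime 2) := ⟨Nat.prime_two⟩
  refine ⟨SS_le_E1 h2 h4, (Matrix.SpecialLinearGroup.map (frobenius F 2)).comp (blk1 F), psi1 h2 h4, ?_, ?_, ?_, ?_, ?_⟩
  · intro g
    refine ⟨⟨levi (Matrix.SpecialLinearGroup.map ((frobeniusEquiv F 2).symm : F →+* F) g), levi_mem _⟩, ?_⟩
    apply Subtype.ext
    ext i j
    rw [MonoidHom.comp_apply, Matrix.SpecialLinearGroup.map_apply_coe, blk1_apply _ (coe_levi _)]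
    simp
  · intro e
    obtain ⟨e, he⟩ := e
    obtain ⟨A, B, C, D, h, -⟩ := exists_blocks e
    obtain ⟨rfl, hA⟩ := (mem_E1 h).1 he
    rw [mem_AA' h2 h4]
    constructor
    · intro h1
      rw [MonoidHom.comp_apply] at h1
      have h3 : blk1 F ⟨e, he⟩ = 1 := by
        apply Subtype.ext
        ext i j
        have h4 := congrArg (fun x : SL2 F => (x : Matrix (Fin 2) (Fin 2) F) i j) h1
        simp only [Matrix.SpecialLinearGroup.map_apply_coe, RingHom.mapMatrix_apply, Matrix.map_apply,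
          Matrix.SpecialLinearGroup.coe_one] at h4
        apply frobenius_inj F 2
        rw [h4]
        rw [Matrix.SpecialLinearGroup.coe_one, Matrix.one_apply]
        split_ifs <;> simp
      have h5 := blk1_apply ⟨e, he⟩ h
      rw [h3, Matrix.SpecialLinearGroup.coe_one] at h5
      subst h5
      exact ⟨_, _, _, eq_up h⟩
    · rintro ⟨p, r, s, rfl⟩
      have h3 : blk1 F ⟨up p r s, he⟩ = 1 := Subtype.ext (blk1_apply ⟨up p r s, he⟩ (coe_up p r s))
      rw [MonoidHom.comp_apply, h3, map_one]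
  · intro v
    refine ⟨⟨up ((Multiplicative.toAdd v) 0) 0 ((Multiplicative.toAdd v) 1), (mem_AA' h2 h4).2 ⟨_, _, _, rfl⟩⟩, ?_⟩
    apply Multiplicative.toAdd.injective
    rw [psi1_apply h2 h4 _ (coe_up _ _ _)]
    funext i
    fin_cases i <;> simp
  · rintro ⟨u, hu⟩ h1
    obtain ⟨p, r, s, rfl⟩ := (mem_AA' h2 h4).1 hu
    have h3 := congrArg Multiplicative.toAdd h1
    rw [psi1_apply h2 h4 _ (coe_up _ _ _)] at h3
    have hp : p = 0 := by simpa using congrFun h3 0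
    have hs : s = 0 := by simpa using congrFun h3 1
    subst hp hs
    rw [mem_centralizer_iff]
    intro e he
    obtain ⟨A, B, C, D, h, -, -, h5⟩ := exists_blocks e
    obtain ⟨rfl, hA⟩ := (mem_E1 h).1 he
    have h6 : Aᵀ * D = 1 := by simpa using h5
    have h7 : A * !![0, r; r, 0] * Aᵀ = !![0, r; r, 0] := by
      rw [det_fin_two] at hA
      ext i j
      fin_cases i <;> fin_cases j <;> simp [Matrix.mul_apply, Fin.sum_univ_two]
      · linear_combination (A 0 0 * A 0 1 * r) * h2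
      · linear_combination r * hA + (A 0 1 * A 1 0 * r) * h2
      · linear_combination r * hA + (A 0 1 * A 1 0 * r) * h2
      · linear_combination (A 1 0 * A 1 1 * r) * h2
    have h8 : A * !![0, r; r, 0] = !![0, r; r, 0] * D := by
      calc A * !![0, r; r, 0] = A * !![0, r; r, 0] * (Aᵀ * D) := by rw [h6, Matrix.mul_one]
        _ = A * !![0, r; r, 0] * Aᵀ * D := by rw [← Matrix.mul_assoc]
        _ = _ := by rw [h7]
    apply Subtype.ext
    show (e : M4 F) * ((up 0 r 0 : Sp4 F) : M4 F) = ((up 0 r 0 : Sp4 F) : M4 F) * (e : M4 F)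
    rw [h, coe_up, fromBlocks_multiply, fromBlocks_multiply]
    congr 1
    · simp
    · rw [h8]
      simp [add_comm]
    · simp
    · simp
  · rintro ⟨e, he⟩ ⟨u, hu⟩ ⟨w, hw⟩ hc
    obtain ⟨A, B, C, D, h, -⟩ := exists_blocks e
    obtain ⟨rfl, hA⟩ := (mem_E1 h).1 he
    obtain ⟨p, r, s, rfl⟩ := (mem_AA' h2 h4).1 hu
    obtain ⟨p', r', s', rfl⟩ := (mem_AA' h2 h4).1 hw
    have h3 := conj_up h hc
    rw [psi1_apply h2 h4 _ (coe_up _ _ _), psi1_apply h2 h4 _ (coe_up _ _ _), MonoidHom.comp_apply,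
      Matrix.SpecialLinearGroup.map_apply_coe, blk1_apply _ h]
    have f0 := congrFun (congrFun h3 0) 0
    have f1 := congrFun (congrFun h3 1) 1
    simp [Matrix.mul_apply, Fin.sum_univ_two] at f0 f1
    funext i
    fin_cases i
    · simp [Matrix.mulVec, dotProduct, Fin.sum_univ_two, frobenius_def]
      linear_combination f0 + (A 0 0 * A 0 1 * r) * h2
    · simp [Matrix.mulVec, dotProduct, Fin.sum_univ_two, frobenius_def]
      linear_combination f1 + (A 1 0 * A 1 1 * r) * h2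

theorem side2 (h2 : (2 : F) = 0) (h4 : ∃ l : F, l ≠ 0 ∧ l ≠ 1) :
    Side (coords h2 h4).SS (coords h2 h4).BB (E2 F) F := by
  refine ⟨SS_le_E2 h2 h4, rho2 F, psi2 h2 h4, ?_, ?_, ?_, ?_, ?_⟩
  · intro g
    refine ⟨⟨levi2 g, levi2_mem _⟩, ?_⟩
    apply Subtype.ext
    rw [rho2_apply _ (coe_levi2 _)]
    ext i j
    fin_cases i <;> fin_cases j <;> simp
  · intro e
    obtain ⟨e, he⟩ := e
    obtain ⟨A, B, C, D, h, h5, h6, h7⟩ := exists_blocks e
    obtain ⟨a1, a2, c1, c2⟩ := (mem_E2 h).1 he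
    obtain ⟨d1, d2, -, c3⟩ := E2_row he h
    rw [mem_BB' h2 h4]
    constructor
    · intro h1
      have h8 := rho2_apply ⟨e, he⟩ h
      rw [h1, Matrix.SpecialLinearGroup.coe_one] at h8
      have a3 : A 1 1 = 1 := by simpa using (congrFun (congrFun h8 0) 0).symm
      have b3 : B 1 1 = 0 := by simpa using (congrFun (congrFun h8 0) 1).symm
      have c4 : C 1 1 = 0 := by simpa using (congrFun (congrFun h8 1) 0).symm
      have d3 : D 1 1 = 1 := by simpa using (congrFun (congrFun h8 1) 1).symm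
      have f1 := congrFun (congrFun h6 0) 1
      simp [Matrix.mul_apply, Fin.sum_univ_two, d1, d2, d3, b3] at f1
      have f2 := congrFun (congrFun h7 1) 0
      simp [Matrix.mul_apply, Fin.sum_univ_two, d1, d2, d3, b3, a3, c3, c4] at f2
      refine ⟨A 0 1, B 0 0 - A 0 1 * B 0 1, B 0 1, ?_⟩
      apply Subtype.ext
      rw [h, coe_lev_up]
      congr 1
      · ext i j
        fin_cases i <;> fin_cases j <;> simp [a1, a2, a3]
      · ext i j
        fin_cases i <;> fin_cases j <;> simp [b3, f1]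
      · ext i j
        fin_cases i <;> fin_cases j <;> simp [c1, c2, c3, c4]
      · ext i j
        fin_cases i <;> fin_cases j <;> simp [d1, d2, d3]
        linear_combination f2
    · rintro ⟨t, p, r, rfl⟩
      apply Subtype.ext
      rw [rho2_apply _ (coe_lev_up t p r 0)]
      ext i j
      fin_cases i <;> fin_cases j <;> simp
  · intro v
    refine ⟨⟨lev (-((Multiplicative.toAdd v) 1)) * up 0 ((Multiplicative.toAdd v) 0) 0,
      (mem_BB' h2 h4).2 ⟨_, _, _, rfl⟩⟩, ?_⟩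
    apply Multiplicative.toAdd.injective
    rw [psi2_apply h2 h4 _ (coe_lev_up _ _ _ _)]
    funext i
    fin_cases i <;> simp
  · rintro ⟨u, hu⟩ h1
    obtain ⟨t, p, r, rfl⟩ := (mem_BB' h2 h4).1 hu
    have h3 := congrArg Multiplicative.toAdd h1
    rw [psi2_apply h2 h4 _ (coe_lev_up _ _ _ _)] at h3
    have hr : r = 0 := by simpa using congrFun h3 0
    have ht : t = 0 := by simpa using congrFun h3 1
    subst hr ht
    rw [mem_centralizer_iff]
    intro e he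
    obtain ⟨A, B, C, D, h, -⟩ := exists_blocks e
    obtain ⟨a1, a2, c1, c2⟩ := (mem_E2 h).1 he
    obtain ⟨d1, d2, -, c3⟩ := E2_row he h
    apply Subtype.ext
    show (e : M4 F) * ((lev 0 * up p 0 0 : Sp4 F) : M4 F) = ((lev 0 * up p 0 0 : Sp4 F) : M4 F) * (e : M4 F)
    rw [h, coe_lev_up, fromBlocks_multiply, fromBlocks_multiply]
    congr 1
    · ext i j
      fin_cases i <;> fin_cases j <;> simp [Matrix.mul_apply, Matrix.vecMul, dotProduct, Fin.sum_univ_two, a1, a2, c1, c2, c3]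
    · ext i j
      fin_cases i <;> fin_cases j <;> simp [Matrix.mul_apply, Matrix.vecMul, dotProduct, Fin.sum_univ_two, a1, a2, d1, d2, c1, c2, c3, add_comm]
    · ext i j
      fin_cases i <;> fin_cases j <;> simp [Matrix.mul_apply, Matrix.vecMul, dotProduct, Fin.sum_univ_two, a1, a2, c1, c2, c3]
    · ext i j
      fin_cases i <;> fin_cases j <;> simp [Matrix.mul_apply, Matrix.vecMul, dotProduct, Fin.sum_univ_two, a1, a2, d1, d2, c1, c2, c3]
  · rintro ⟨e, he⟩ ⟨u, hu⟩ ⟨w, hw⟩ hc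
    obtain ⟨A, B, C, D, h, -⟩ := exists_blocks e
    obtain ⟨a1, a2, c1, c2⟩ := (mem_E2 h).1 he
    obtain ⟨d1, d2, -, c3⟩ := E2_row he h
    obtain ⟨t, p, r, rfl⟩ := (mem_BB' h2 h4).1 hu
    obtain ⟨t', p', r', rfl⟩ := (mem_BB' h2 h4).1 hw
    rw [psi2_apply h2 h4 _ (coe_lev_up _ _ _ _), psi2_apply h2 h4 _ (coe_lev_up _ _ _ _), rho2_apply _ h]
    have h5 : (lev t' * up p' r' 0) * e = e * (lev t * up p r 0) := by
      have : lev t' * up p' r' 0 = e * (lev t * up p r 0) * e⁻¹ := hc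
      rw [this, inv_mul_cancel_right]
    have h6 : ((lev t' * up p' r' 0 : Sp4 F) : M4 F) * (e : M4 F) = (e : M4 F) * ((lev t * up p r 0 : Sp4 F) : M4 F) :=
      congrArg (fun x : Sp4 F => (x : M4 F)) h5
    rw [h, coe_lev_up, coe_lev_up, fromBlocks_multiply, fromBlocks_multiply, fromBlocks_inj] at h6
    have f0 := congrFun (congrFun h6.2.1 1) 0
    have f1 := congrFun (congrFun h6.2.2.2 1) 0
    simp [Matrix.mul_apply, Matrix.vecMul, dotProduct, Fin.sum_univ_two, a1, a2, d1, d2, c1, c2, c3] at f0 f1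
    funext i
    fin_cases i
    · simp [Matrix.mulVec, dotProduct, Fin.sum_univ_two]
      linear_combination f0
    · simp [Matrix.mulVec, dotProduct, Fin.sum_univ_two]
      linear_combination f1

/-! ### Generation -/

/-- `[[1, 0], [S, 1]]` -/
def low (p r s : F) : Sp4 F :=
  ⟨fromBlocks 1 0 !![p, r; r, s] 1, by
    apply Cfsg.Agent.LieClassical.SympCenter.lower_mem
    ext i j
    fin_cases i <;> fin_cases j <;> rfl⟩

theorem coe_low (p r s : F) : ((low p r s : Sp4 F) : M4 F) = fromBlocks 1 0 !![p, r; r, s] 1 := rfl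

theorem low_mul (p r s p' r' s' : F) : low p r s * low p' r' s' = low (p + p') (r + r') (s + s') := by
  apply Subtype.ext
  show fromBlocks 1 0 !![p, r; r, s] 1 * fromBlocks 1 0 !![p', r'; r', s'] 1 =
    fromBlocks 1 0 !![p + p', r + r'; r + r', s + s'] 1
  rw [fromBlocks_multiply]
  congr 1
  · simp
  · simp
  · ext i j
    fin_cases i <;> fin_cases j <;> simp [add_comm]
  · simp

theorem low_mem_one (s : F) : low 0 0 s ∈ E1 F ⊔ E2 F :=
  mem_sup_right ((mem_E2 (coe_low 0 0 s)).2 (by simp))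

/-- the Weyl element of `SL₂` -/
def wey (F : Type u) [Field F] : SL2 F := ⟨!![0, 1; -1, 0], by rw [det_fin_two_of]; ring⟩

theorem coe_levi_wey : ((levi (wey F) : Sp4 F) : M4 F) = fromBlocks !![0, 1; -1, 0] 0 0 !![0, 1; -1, 0] := by
  rw [coe_levi]
  congr 1
  ext i j
  rw [Matrix.transpose_apply, Matrix.SpecialLinearGroup.coe_inv, wey, Matrix.adjugate_fin_two]
  fin_cases i <;> fin_cases j <;> simp

theorem low_mem_two (p : F) : low p 0 0 ∈ E1 F ⊔ E2 F := by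
  have h : levi (wey F) * low 0 0 p = low p 0 0 * levi (wey F) := by
    apply Subtype.ext
    show ((levi (wey F) : Sp4 F) : M4 F) * ((low 0 0 p : Sp4 F) : M4 F) =
      ((low p 0 0 : Sp4 F) : M4 F) * ((levi (wey F) : Sp4 F) : M4 F)
    rw [coe_levi_wey, coe_low, coe_low, fromBlocks_multiply, fromBlocks_multiply]
    congr 1
    · simp
    · simp
    · ext i j
      fin_cases i <;> fin_cases j <;> simp [Matrix.mul_apply, Fin.sum_univ_two]
    · simp
  have h1 : levi (wey F) ∈ E1 F ⊔ E2 F := mem_sup_left (levi_mem _)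
  have h2 : low p 0 0 = levi (wey F) * low 0 0 p * (levi (wey F))⁻¹ := by rw [h, mul_inv_cancel_right]
  rw [h2]
  exact mul_mem (mul_mem h1 (low_mem_one p)) (inv_mem h1)

theorem low_mem_three (s : F) : low s (-s) s ∈ E1 F ⊔ E2 F := by
  have h : lev 1 * low s 0 0 = low s (-s) s * lev 1 := by
    apply Subtype.ext
    show ((lev 1 : Sp4 F) : M4 F) * ((low s 0 0 : Sp4 F) : M4 F) =
      ((low s (-s) s : Sp4 F) : M4 F) * ((lev 1 : Sp4 F) : M4 F)
    rw [coe_lev, coe_low, coe_low, fromBlocks_multiply, fromBlocks_multiply]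
    congr 1
    · simp
    · simp
    · ext i j
      fin_cases i <;> fin_cases j <;> simp [Matrix.mul_apply, Fin.sum_univ_two]
    · simp
  have h1 : (lev 1 : Sp4 F) ∈ E1 F ⊔ E2 F := mem_sup_left (lev_mem_E1 _)
  have h2 : low s (-s) s = lev 1 * low s 0 0 * (lev 1)⁻¹ := by rw [h, mul_inv_cancel_right]
  rw [h2]
  exact mul_mem (mul_mem h1 (low_mem_two s)) (inv_mem h1)

theorem low_mem (p r s : F) : low p r s ∈ E1 F ⊔ E2 F := by
  have h : low p r s = low (-r) (- -r) (-r) * (low (p + r) 0 0 * low 0 0 (s + r)) := by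
    rw [low_mul, low_mul]
    congr 1 <;> ring
  rw [h]
  exact mul_mem (low_mem_three _) (mul_mem (low_mem_two _) (low_mem_one _))

theorem exists_symm {b : Fin 2 → F} (hb : b ≠ 0) (c : Fin 2 → F) :
    ∃ p r s : F, (!![p, r; r, s] : Matrix (Fin 2) (Fin 2) F).mulVec b = c := by
  by_cases h0 : b 0 = 0
  · have h1 : b 1 ≠ 0 := by
      intro h1
      apply hb
      funext i
      fin_cases i
      · exact h0
      · exact h1
    refine ⟨0, c 0 / b 1, c 1 / b 1, ?_⟩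
    funext i
    fin_cases i <;> simp [Matrix.mulVec, dotProduct, Fin.sum_univ_two, h0, h1]
  · refine ⟨(c 0 - c 1 / b 0 * b 1) / b 0, c 1 / b 0, 0, ?_⟩
    funext i
    fin_cases i
    · simp [Matrix.mulVec, dotProduct, Fin.sum_univ_two]
      field_simp
      ring
    · simp [Matrix.mulVec, dotProduct, Fin.sum_univ_two]
      field_simp

theorem up_mulVec (p r s : F) (a b : Fin 2 → F) : ((up p r s : Sp4 F) : M4 F).mulVec (Sum.elim a b) =
    Sum.elim (a + (!![p, r; r, s] : Matrix (Fin 2) (Fin 2) F).mulVec b) b := by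
  rw [coe_up, fromBlocks_mulVec]
  simp

theorem low_mulVec (p r s : F) (a b : Fin 2 → F) : ((low p r s : Sp4 F) : M4 F).mulVec (Sum.elim a b) =
    Sum.elim a ((!![p, r; r, s] : Matrix (Fin 2) (Fin 2) F).mulVec a + b) := by
  rw [coe_low, fromBlocks_mulVec]
  simp

/-- one orbit on the nonzero vectors -/
theorem exists_move (v : Fin 2 ⊕ Fin 2 → F) (hv : v ≠ 0) : ∃ g ∈ E1 F ⊔ E2 F, (g : M4 F).mulVec v = e0 F := by
  obtain ⟨a, b, rfl⟩ : ∃ a b : Fin 2 → F, v = Sum.elim a b := ⟨v ∘ Sum.inl, v ∘ Sum.inr, (Sum.elim_comp_inl_inr v).symm⟩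
  have he : e0 F = Sum.elim ![1, 0] 0 := by
    funext i
    rcases i with i | i <;> fin_cases i <;> simp [e0]
  have hne : (![1, 0] : Fin 2 → F) ≠ 0 := fun h => one_ne_zero (congrFun h 0)
  -- the case `b ≠ 0`
  have key : ∀ a b : Fin 2 → F, b ≠ 0 → ∃ g ∈ E1 F ⊔ E2 F, (g : M4 F).mulVec (Sum.elim a b) = e0 F := by
    intro a b hb
    obtain ⟨p, r, s, h1⟩ := exists_symm hb (![1, 0] - a)
    obtain ⟨p', r', s', h2⟩ := exists_symm hne (-b)
    refine ⟨low p' r' s' * up p r s, mul_mem (low_mem _ _ _) (mem_sup_left (up_mem_E1 _ _ _)), ?_⟩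
    show (((low p' r' s' : Sp4 F) : M4 F) * ((up p r s : Sp4 F) : M4 F)).mulVec _ = _
    rw [← Matrix.mulVec_mulVec, up_mulVec, h1, add_sub_cancel, low_mulVec, h2, neg_add_cancel, he]
  by_cases hb : b = 0
  · subst hb
    have ha : a ≠ 0 := by
      rintro rfl
      apply hv
      funext i
      rcases i with i | i <;> rfl
    obtain ⟨p, r, s, h1⟩ := exists_symm ha ![1, 0]
    obtain ⟨g, hg, h2⟩ := key a ![1, 0] hne
    refine ⟨g * low p r s, mul_mem hg (low_mem _ _ _), ?_⟩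
    show ((g : M4 F) * ((low p r s : Sp4 F) : M4 F)).mulVec _ = _
    rw [← Matrix.mulVec_mulVec, low_mulVec, h1, add_zero, h2]
  · exact key a b hb

/-- `⟨E1, E2⟩ = Sp₄(F)` -/
theorem sup_eq_top : E1 F ⊔ E2 F = ⊤ := by
  rw [eq_top_iff, ← S0765.result (F := F) 2, closure_le]
  rintro A ⟨w, c, hA⟩
  by_cases hw : w = 0
  · have : A = 1 := by
      apply Subtype.ext
      apply Matrix.ext_of_mulVec_single
      intro i
      rw [hA, S0765.trans_mulVec, hw, smul_zero, add_zero]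
      exact (Matrix.one_mulVec _).symm
    rw [this]; exact one_mem _
  · obtain ⟨g, hg, h1⟩ := exists_move w hw
    have h2 : g * A * g⁻¹ ∈ E1 F ⊔ E2 F := by
      apply mem_sup_right
      show ((g * A * g⁻¹ : Sp4 F) : M4 F).mulVec (e0 F) = e0 F
      have h3 : ((g⁻¹ : Sp4 F) : M4 F).mulVec (e0 F) = w := by
        rw [← h1, Matrix.mulVec_mulVec]
        have : ((g⁻¹ : Sp4 F) : M4 F) * (g : M4 F) = 1 := congrArg Subtype.val (inv_mul_cancel g)
        rw [this, Matrix.one_mulVec]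
      show ((g : M4 F) * (A : M4 F) * ((g⁻¹ : Sp4 F) : M4 F)).mulVec (e0 F) = e0 F
      rw [← Matrix.mulVec_mulVec, h3, ← Matrix.mulVec_mulVec, hA, S0765.trans_mulVec, S0765.form_self, mul_zero,
        zero_smul, add_zero, h1]
    have h3 : A = g⁻¹ * (g * A * g⁻¹) * g := by group
    rw [h3]
    exact mul_mem (mul_mem (inv_mem hg) h2) hg

end Cfsg.Agent.H276.BlockSp4
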