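import Cfsg.Agent.H276.BlockAB
import Cfsg.Agent.TypeL3.Model
import Cfsg.Agent.LieClassical.SLGen

/-!
# The two parabolic subgroups `F² : SL₂(F)` of `SL₃(F)`
-/

set_option autoImplicit false
set_option linter.unusedSectionVars false
set_option linter.unusedSimpArgs false

namespace Cfsg.Agent.H276.BlockL3

open Subgroup Matrix Cfsg Cfsg.Agent.TypeL3 Cfsg.Agent.SylowL.UT Cfsg.Agent.SylowL.SylowPSL Cfsg.Agent.H276.BlockAB

universe u v

/-- `SL₃(F)` -/
abbrev SL3 (F : Type u) [Field F] := Matrix.SpecialLinearGroup (Fin 3) F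

/-- `SL₂(F)` -/
abbrev SL2 (F : Type u) [Field F] := Matrix.SpecialLinearGroup (Fin 2) F

variable {F : Type u} [Field F]

/-- the stabilizer of the row vector `(0,0,1)` -/
def E1 (F : Type u) [Field F] : Subgroup (Matrix.SpecialLinearGroup (Fin 3) F) where
  carrier := {g | g 2 0 = 0 ∧ g 2 1 = 0 ∧ g 2 2 = 1}
  one_mem' := by simp
  mul_mem' := by
    rintro a b ⟨a0, a1, a2⟩ ⟨b0, b1, b2⟩
    refine ⟨?_, ?_, ?_⟩ <;>
      simp [Matrix.mul_apply, Fin.sum_univ_three, a0, a1, a2, b0, b1, b2]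
  inv_mem' := by
    rintro a ⟨a0, a1, a2⟩
    have h := a.2
    rw [det_fin_three, a0, a1, a2] at h
    simp only [mul_one, mul_zero, sub_zero, add_zero, zero_mul] at h
    have e : ∀ j, (a⁻¹ : SL3 F) 2 j = ![0, 0, 1] j := by
      intro j
      have h1 : ((a⁻¹ : SL3 F) : Matrix (Fin 3) (Fin 3) F) = adjugate (a : Matrix (Fin 3) (Fin 3) F) := rfl
      rw [h1, adjugate_fin_three]
      fin_cases j
      · simp [a0, a1]
      · simp [a0, a1]
      · simp
        linear_combination h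
    exact ⟨e 0, e 1, e 2⟩

/-- the stabilizer of the column vector `(1,0,0)` -/
def E2 (F : Type u) [Field F] : Subgroup (Matrix.SpecialLinearGroup (Fin 3) F) where
  carrier := {g | g 1 0 = 0 ∧ g 2 0 = 0 ∧ g 0 0 = 1}
  one_mem' := by simp
  mul_mem' := by
    rintro a b ⟨a0, a1, a2⟩ ⟨b0, b1, b2⟩
    refine ⟨?_, ?_, ?_⟩ <;>
      simp [Matrix.mul_apply, Fin.sum_univ_three, a0, a1, a2, b0, b1, b2]
  inv_mem' := by
    rintro a ⟨a0, a1, a2⟩
    have h := a.2
    rw [det_fin_three, a0, a1, a2] at h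
    simp only [one_mul, mul_zero, sub_zero, add_zero, zero_mul] at h
    have e : ∀ j, (a⁻¹ : SL3 F) j 0 = ![1, 0, 0] j := by
      intro j
      have h1 : ((a⁻¹ : SL3 F) : Matrix (Fin 3) (Fin 3) F) = adjugate (a : Matrix (Fin 3) (Fin 3) F) := rfl
      rw [h1, adjugate_fin_three]
      fin_cases j
      · simp
        linear_combination h
      · simp [a0, a1]
      · simp [a0, a1]
    exact ⟨e 1, e 2, e 0⟩

theorem mem_E1 {g : SL3 F} : g ∈ E1 F ↔ g 2 0 = 0 ∧ g 2 1 = 0 ∧ g 2 2 = 1 := Iff.rfl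
theorem mem_E2 {g : SL3 F} : g ∈ E2 F ↔ g 1 0 = 0 ∧ g 2 0 = 0 ∧ g 0 0 = 1 := Iff.rfl

theorem toSL_el (a b c : F) : ((toSL (el a b c) : SL3 F) : Matrix (Fin 3) (Fin 3) F) = !![1, a, c; 0, 1, b; 0, 0, 1] := by
  rw [toSL_coe, N_el]
  ext i j
  fin_cases i <;> fin_cases j <;> simp

theorem U_le_E1 : (⊤ : Subgroup (UT 3 F)).map toSL ≤ E1 F := by
  rintro _ ⟨x, -, rfl⟩
  obtain ⟨a, b, c, rfl⟩ := exists_el x
  rw [mem_E1, toSL_el]
  simp

theorem U_le_E2 : (⊤ : Subgroup (UT 3 F)).map toSL ≤ E2 F := by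
  rintro _ ⟨x, -, rfl⟩
  obtain ⟨a, b, c, rfl⟩ := exists_el x
  rw [mem_E2, toSL_el]
  simp

/-- the block of `E1` -/
def rho1 (F : Type u) [Field F] : ↥(E1 F) →* Matrix.SpecialLinearGroup (Fin 2) F :=
  MonoidHom.mk' (fun g => ⟨!![(g : SL3 F) 0 0, (g : SL3 F) 0 1; (g : SL3 F) 1 0, (g : SL3 F) 1 1], by
    obtain ⟨g, a0, a1, a2⟩ := g
    have h := g.2
    rw [det_fin_three, a0, a1, a2] at h
    simp only [mul_one, mul_zero, sub_zero, add_zero, zero_mul] at h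
    rw [det_fin_two_of]
    linear_combination h⟩) (by
    rintro ⟨g, a0, a1, a2⟩ ⟨h, b0, b1, b2⟩
    apply Subtype.ext
    show !![(g * h) 0 0, (g * h) 0 1; (g * h) 1 0, (g * h) 1 1] =
      !![g 0 0, g 0 1; g 1 0, g 1 1] * !![h 0 0, h 0 1; h 1 0, h 1 1]
    rw [Matrix.mul_fin_two]
    simp [Matrix.mul_apply, Fin.sum_univ_three, b0, b1])

/-- the inverse transpose of the block of `E2` -/
def rho2 (F : Type u) [Field F] : ↥(E2 F) →* Matrix.SpecialLinearGroup (Fin 2) F :=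
  MonoidHom.mk' (fun g => ⟨!![(g : SL3 F) 2 2, -(g : SL3 F) 2 1; -(g : SL3 F) 1 2, (g : SL3 F) 1 1], by
    obtain ⟨g, a0, a1, a2⟩ := g
    have h := g.2
    rw [det_fin_three, a0, a1, a2] at h
    simp only [one_mul, mul_zero, sub_zero, add_zero, zero_mul] at h
    rw [det_fin_two_of]
    linear_combination h⟩) (by
    rintro ⟨g, a0, a1, a2⟩ ⟨h, b0, b1, b2⟩
    apply Subtype.ext
    show !![(g * h) 2 2, -(g * h) 2 1; -(g * h) 1 2, (g * h) 1 1] =
      !![g 2 2, -g 2 1; -g 1 2, g 1 1] * !![h 2 2, -h 2 1; -h 1 2, h 1 1]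
    rw [Matrix.mul_fin_two]
    simp [Matrix.mul_apply, Fin.sum_univ_three, a0, a1]
    exact ⟨add_comm _ _, add_comm _ _⟩)

theorem rho1_apply (g : ↥(E1 F)) : ((rho1 F g : SL2 F) : Matrix (Fin 2) (Fin 2) F) =
    !![(g : SL3 F) 0 0, (g : SL3 F) 0 1; (g : SL3 F) 1 0, (g : SL3 F) 1 1] := rfl

theorem rho2_apply (g : ↥(E2 F)) : ((rho2 F g : SL2 F) : Matrix (Fin 2) (Fin 2) F) =
    !![(g : SL3 F) 2 2, -(g : SL3 F) 2 1; -(g : SL3 F) 1 2, (g : SL3 F) 1 1] := rfl

theorem mem_B {g : SL3 F} : g ∈ (B0 F).map toSL ↔ g 0 0 = 1 ∧ g 0 1 = 0 ∧ g 1 0 = 0 ∧ g 1 1 = 1 ∧ g 2 0 = 0 ∧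
    g 2 1 = 0 ∧ g 2 2 = 1 := by
  constructor
  · rintro ⟨x, hx, rfl⟩
    obtain ⟨b, c, rfl⟩ := hx
    rw [toSL_el]
    simp
  · rintro ⟨h1, h2, h3, h4, h5, h6, h7⟩
    refine ⟨el 0 (g 1 2) (g 0 2), el_mem_B0.2 rfl, ?_⟩
    apply Subtype.ext
    rw [toSL_el]
    ext i j
    fin_cases i <;> fin_cases j <;> simp [h1, h2, h3, h4, h5, h6, h7]

theorem mem_A {g : SL3 F} : g ∈ (A0 F).map toSL ↔ g 0 0 = 1 ∧ g 1 0 = 0 ∧ g 1 1 = 1 ∧ g 1 2 = 0 ∧ g 2 0 = 0 ∧
    g 2 1 = 0 ∧ g 2 2 = 1 := by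
  constructor
  · rintro ⟨x, hx, rfl⟩
    obtain ⟨b, c, rfl⟩ := hx
    rw [toSL_el]
    simp
  · rintro ⟨h1, h2, h3, h4, h5, h6, h7⟩
    refine ⟨el (g 0 1) 0 (g 0 2), el_mem_A0.2 rfl, ?_⟩
    apply Subtype.ext
    rw [toSL_el]
    ext i j
    fin_cases i <;> fin_cases j <;> simp [h1, h2, h3, h4, h5, h6, h7]

/-- the coordinates on `B` -/
def psi1 (F : Type u) [Field F] : ↥((B0 F).map (toSL : UT 3 F →* _)) →* Multiplicative (Fin 2 → F) :=
  MonoidHom.mk' (fun g => Multiplicative.ofAdd ![(g : SL3 F) 0 2, (g : SL3 F) 1 2]) (by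
    rintro ⟨g, hg⟩ ⟨h, hh⟩
    obtain ⟨g1, g2, g3, g4, g5, g6, g7⟩ := mem_B.1 hg
    obtain ⟨h1, h2, h3, h4, h5, h6, h7⟩ := mem_B.1 hh
    rw [← ofAdd_add]
    congr 1
    funext i
    fin_cases i
    · simp [Matrix.mul_apply, Fin.sum_univ_three, g1, g2, h7]
      ring
    · simp [Matrix.mul_apply, Fin.sum_univ_three, g3, g4, h7]
      ring)

/-- the coordinates on `A` -/
def psi2 (F : Type u) [Field F] : ↥((A0 F).map (toSL : UT 3 F →* _)) →* Multiplicative (Fin 2 → F) :=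
  MonoidHom.mk' (fun g => Multiplicative.ofAdd ![(g : SL3 F) 0 1, (g : SL3 F) 0 2]) (by
    rintro ⟨g, hg⟩ ⟨h, hh⟩
    obtain ⟨g1, g2, g3, g4, g5, g6, g7⟩ := mem_A.1 hg
    obtain ⟨h1, h2, h3, h4, h5, h6, h7⟩ := mem_A.1 hh
    rw [← ofAdd_add]
    congr 1
    funext i
    fin_cases i
    · simp [Matrix.mul_apply, Fin.sum_univ_three, g1, h3, h6]
      ring
    · simp [Matrix.mul_apply, Fin.sum_univ_three, g1, h4, h7]
      ring)

theorem side1 : Side ((⊤ : Subgroup (UT 3 F)).map toSL) ((B0 F).map toSL) (E1 F) F := by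
  refine ⟨U_le_E1, rho1 F, psi1 F, ?_, ?_, ?_, ?_, ?_⟩
  · intro g
    refine ⟨⟨⟨!![g 0 0, g 0 1, 0; g 1 0, g 1 1, 0; 0, 0, 1], ?_⟩, ⟨rfl, rfl, rfl⟩⟩, ?_⟩
    · have h := g.2
      rw [det_fin_two] at h
      rw [det_fin_three]
      simp
      linear_combination h
    · apply Subtype.ext
      rw [rho1_apply]
      ext i j
      fin_cases i <;> fin_cases j <;> simp
  · rintro ⟨e, e0, e1, e2⟩
    rw [mem_B]
    constructor
    · intro h
      have h1 := congrArg (fun x : SL2 F => (x : Matrix (Fin 2) (Fin 2) F)) h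
      rw [rho1_apply] at h1
      have f00 := congrFun (congrFun h1 0) 0
      have f01 := congrFun (congrFun h1 0) 1
      have f10 := congrFun (congrFun h1 1) 0
      have f11 := congrFun (congrFun h1 1) 1
      simp at f00 f01 f10 f11
      exact ⟨f00, f01, f10, f11, e0, e1, e2⟩
    · rintro ⟨h1, h2, h3, h4, -⟩
      replace h1 : e 0 0 = 1 := h1
      replace h2 : e 0 1 = 0 := h2
      replace h3 : e 1 0 = 0 := h3
      replace h4 : e 1 1 = 1 := h4
      apply Subtype.ext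
      rw [rho1_apply]
      ext i j
      fin_cases i <;> fin_cases j <;> simp [h1, h2, h3, h4]
  · intro v
    refine ⟨⟨toSL (el 0 ((Multiplicative.toAdd v) 1) ((Multiplicative.toAdd v) 0)),
      ⟨_, el_mem_B0.2 rfl, rfl⟩⟩, ?_⟩
    apply Multiplicative.toAdd.injective
    show ![((toSL (el 0 _ _) : SL3 F) : Matrix (Fin 3) (Fin 3) F) 0 2, ((toSL (el 0 _ _) : SL3 F) : Matrix (Fin 3) (Fin 3) F) 1 2] = _
    rw [toSL_el]
    funext i
    fin_cases i <;> simp
  · rintro ⟨u, hu⟩ h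
    obtain ⟨h1, h2, h3, h4, h5, h6, h7⟩ := mem_B.1 hu
    have h8 : ![(u : SL3 F) 0 2, (u : SL3 F) 1 2] = (0 : Fin 2 → F) := h
    have f0 := congrFun h8 0
    have f1 := congrFun h8 1
    simp at f0 f1
    have hu1 : u = 1 := by
      apply Subtype.ext
      ext i j
      fin_cases i <;> fin_cases j <;> simp [h1, h2, h3, h4, h5, h6, h7, f0, f1]
    show u ∈ _
    rw [hu1]; exact one_mem _
  · rintro ⟨e, e0, e1, e2⟩ ⟨u, hu⟩ ⟨w, hw⟩ h
    obtain ⟨u1, u2, u3, u4, u5, u6, u7⟩ := mem_B.1 hu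
    obtain ⟨w1, w2, w3, w4, w5, w6, w7⟩ := mem_B.1 hw
    have h1 : w * e = e * u := by
      have : w = e * u * e⁻¹ := h
      rw [this, inv_mul_cancel_right]
    have h2 := congrArg (fun x : SL3 F => (x : Matrix (Fin 3) (Fin 3) F)) h1
    have f0 := congrFun (congrFun h2 0) 2
    have f1 := congrFun (congrFun h2 1) 2
    simp [Matrix.mul_apply, Fin.sum_univ_three, u1, u2, u3, u4, u5, u6, u7, w1, w2, w3, w4, w5, w6, w7, e0, e1, e2]
      at f0 f1
    rw [rho1_apply]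
    show ![w 0 2, w 1 2] = _
    funext i
    fin_cases i
    · simp [psi1, Matrix.mulVec, dotProduct, Fin.sum_univ_two]
      linear_combination f0
    · simp [psi1, Matrix.mulVec, dotProduct, Fin.sum_univ_two]
      linear_combination f1

theorem side2 : Side ((⊤ : Subgroup (UT 3 F)).map toSL) ((A0 F).map toSL) (E2 F) F := by
  refine ⟨U_le_E2, rho2 F, psi2 F, ?_, ?_, ?_, ?_, ?_⟩
  · intro g
    refine ⟨⟨⟨!![1, 0, 0; 0, g 1 1, -g 1 0; 0, -g 0 1, g 0 0], ?_⟩, ⟨rfl, rfl, rfl⟩⟩, ?_⟩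
    · have h := g.2
      rw [det_fin_two] at h
      rw [det_fin_three]
      simp
      linear_combination h
    · apply Subtype.ext
      rw [rho2_apply]
      ext i j
      fin_cases i <;> fin_cases j <;> simp
  · rintro ⟨e, e0, e1, e2⟩
    rw [mem_A]
    constructor
    · intro h
      have h1 := congrArg (fun x : SL2 F => (x : Matrix (Fin 2) (Fin 2) F)) h
      rw [rho2_apply] at h1
      have f00 := congrFun (congrFun h1 0) 0
      have f01 := congrFun (congrFun h1 0) 1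
      have f10 := congrFun (congrFun h1 1) 0
      have f11 := congrFun (congrFun h1 1) 1
      simp at f00 f01 f10 f11
      exact ⟨e2, e0, f11, f10, e1, f01, f00⟩
    · rintro ⟨-, -, h3, h4, -, h6, h7⟩
      replace h3 : e 1 1 = 1 := h3
      replace h4 : e 1 2 = 0 := h4
      replace h6 : e 2 1 = 0 := h6
      replace h7 : e 2 2 = 1 := h7
      apply Subtype.ext
      rw [rho2_apply]
      ext i j
      fin_cases i <;> fin_cases j <;> simp [h3, h4, h6, h7]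
  · intro v
    refine ⟨⟨toSL (el ((Multiplicative.toAdd v) 0) 0 ((Multiplicative.toAdd v) 1)),
      ⟨_, el_mem_A0.2 rfl, rfl⟩⟩, ?_⟩
    apply Multiplicative.toAdd.injective
    show ![((toSL (el _ 0 _) : SL3 F) : Matrix (Fin 3) (Fin 3) F) 0 1, ((toSL (el _ 0 _) : SL3 F) : Matrix (Fin 3) (Fin 3) F) 0 2] = _
    rw [toSL_el]
    funext i
    fin_cases i <;> simp
  · rintro ⟨u, hu⟩ h
    obtain ⟨h1, h2, h3, h4, h5, h6, h7⟩ := mem_A.1 hu
    have h8 : ![(u : SL3 F) 0 1, (u : SL3 F) 0 2] = (0 : Fin 2 → F) := h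
    have f0 := congrFun h8 0
    have f1 := congrFun h8 1
    simp at f0 f1
    have hu1 : u = 1 := by
      apply Subtype.ext
      ext i j
      fin_cases i <;> fin_cases j <;> simp [h1, h2, h3, h4, h5, h6, h7, f0, f1]
    show u ∈ _
    rw [hu1]; exact one_mem _
  · rintro ⟨e, e0, e1, e2⟩ ⟨u, hu⟩ ⟨w, hw⟩ h
    obtain ⟨u1, u2, u3, u4, u5, u6, u7⟩ := mem_A.1 hu
    obtain ⟨w1, w2, w3, w4, w5, w6, w7⟩ := mem_A.1 hw
    have h1 : w * e = e * u := by
      have : w = e * u * e⁻¹ := h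
      rw [this, inv_mul_cancel_right]
    have h2 := congrArg (fun x : SL3 F => (x : Matrix (Fin 3) (Fin 3) F)) h1
    have f1 := congrFun (congrFun h2 0) 1
    have f2 := congrFun (congrFun h2 0) 2
    have hd := e.2
    rw [det_fin_three, e0, e1, e2] at hd
    simp only [one_mul, mul_zero, sub_zero, add_zero, zero_mul] at hd
    simp [Matrix.mul_apply, Fin.sum_univ_three, u1, u2, u3, u4, u5, u6, u7, w1, w2, w3, w4, w5, w6, w7, e0, e1, e2]
      at f1 f2
    rw [rho2_apply]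
    show ![w 0 1, w 0 2] = _
    funext i
    fin_cases i
    · simp [psi2, Matrix.mulVec, dotProduct, Fin.sum_univ_two]
      linear_combination (e 2 2) * f1 - (e 2 1) * f2 - (w 0 1) * hd
    · simp [psi2, Matrix.mulVec, dotProduct, Fin.sum_univ_two]
      linear_combination (-(e 1 2)) * f1 + (e 1 1) * f2 - (w 0 2) * hd

/-- `⟨E1, E2⟩ = SL₃(F)` -/
theorem sup_eq_top : E1 F ⊔ E2 F = ⊤ := by
  refine top_unique fun A _ => ?_
  refine LieClassical.SLGen.transvection_induction (fun A => A ∈ E1 F ⊔ E2 F) ?_ (fun _ _ h1 h2 => mul_mem h1 h2) A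
  intro i j hij c
  have hcoe : ∀ (i j : Fin 3) (hij : i ≠ j) (c : F), ((SpecialLinearGroup.transvection hij c : SL3 F) : Matrix (Fin 3) (Fin 3) F) =
      Matrix.transvection i j c := fun _ _ _ _ => rfl
  have h1 : ∀ (i j : Fin 3) (hij : i ≠ j) (c : F), i ≠ 2 → (SpecialLinearGroup.transvection hij c : SL3 F) ∈ E1 F ⊔ E2 F := by
    intro i j hij c hi
    apply mem_sup_left
    rw [mem_E1, hcoe]
    fin_cases i <;> fin_cases j <;> simp [Matrix.transvection, Matrix.single] at hij hi ⊢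
  have h2 : ∀ (i j : Fin 3) (hij : i ≠ j) (c : F), j ≠ 0 → (SpecialLinearGroup.transvection hij c : SL3 F) ∈ E1 F ⊔ E2 F := by
    intro i j hij c hi
    apply mem_sup_right
    rw [mem_E2, hcoe]
    fin_cases i <;> fin_cases j <;> simp [Matrix.transvection, Matrix.single] at hij hi ⊢
  by_cases hi : i = 2
  · by_cases hj : j = 0
    · subst hi hj
      have h3 := LieClassical.SLGen.commutator_transvection (F := F) (i := (2 : Fin 3)) (j := 0) (k := 1) (by decide)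
        (by decide) (by decide) c 1
      rw [mul_one] at h3
      rw [← h3, commutatorElement_def]
      have g1 := h2 (2 : Fin 3) 1 (by decide) c (by decide)
      have g2 := h1 (1 : Fin 3) 0 (by decide) 1 (by decide)
      exact mul_mem (mul_mem (mul_mem g1 g2) (inv_mem g1)) (inv_mem g2)
    · exact h2 i j hij c hj
  · exact h1 i j hij c hi

end Cfsg.Agent.H276.BlockL3
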