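import Cfsg.Agent.TwoURows.Main
import Cfsg.Agent.SectRankFour.AutSz8
import Cfsg.Agent.H318.JOneE
import Cfsg.Agent.H274.GoodLie

/-!
# Strongly embedded subgroups of normal subgroups of odd index

* `se_of_odd_index` : if a normal subgroup of odd index has a strongly embedded subgroup, so has the group;
* `se_psl2`, `se_psu3`, `se_sz`, `se_of_bender` : the simple groups of Lie type of characteristic 2 and rank one have
  strongly embedded subgroups.
-/

set_option autoImplicit false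

namespace Cfsg.Agent.H276.SEOdd

open Subgroup Cfsg Cfsg.Agent.TwoURows

universe u

theorem se_inter {K : Type*} [Group K] {M N : Subgroup K} (hM : SE M) (hN : SE N)
    (h : ∃ t ∈ M ⊓ N, t * t = 1 ∧ t ≠ 1) : SE (M ⊓ N) := by
  refine ⟨fun h1 => hM.ne_top (top_le_iff.1 (h1 ▸ inf_le_left)), h, ?_⟩
  intro g t ht hgt h1 h1'
  exact mem_inf.2 ⟨hM.mem g t ht.1 hgt.1 h1 h1', hN.mem g t ht.2 hgt.2 h1 h1'⟩

theorem mem_map_conj {K : Type*} [Group K] {M : Subgroup K} {g x : K} :
    x ∈ M.map (MulAut.conj g).toMonoidHom ↔ g⁻¹ * x * g ∈ M := by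
  constructor
  · rintro ⟨y, hy, rfl⟩
    have : g⁻¹ * ((MulAut.conj g).toMonoidHom y) * g = y := by
      change g⁻¹ * (g * y * g⁻¹) * g = y
      group
    rw [this]; exact hy
  · intro h
    refine ⟨_, h, ?_⟩
    change g * (g⁻¹ * x * g) * g⁻¹ = x
    group

/-- **Strongly embedded subgroups in overgroups of odd index.** -/
theorem se_of_odd_index {G : Type u} [Group G] [Finite G] (L : Subgroup G) [L.Normal] (ho : Odd L.index)
    (h : ∃ M : Subgroup L, SE M) : ∃ H : Subgroup G, IsStronglyEmbedded H := by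
  have h2 : Fact (Nat.Prime 2) := ⟨Nat.prime_two⟩
  obtain ⟨M₁, hM₁⟩ := h
  obtain ⟨T, hT⟩ := SectRankFour.AutSz8.exists_sylow_le (H318.JOne.stronglyEmbedded_of_se hM₁)
  -- the minimal one
  obtain ⟨M, ⟨hM, hTM⟩, hmin⟩ : ∃ M : Subgroup L, (SE M ∧ (T : Subgroup L) ≤ M) ∧
      ∀ N : Subgroup L, SE N → (T : Subgroup L) ≤ N → Nat.card M ≤ Nat.card N := by
    classical
    have hne : {M : Subgroup L | SE M ∧ (T : Subgroup L) ≤ M}.Nonempty := ⟨M₁, hM₁, hT⟩
    obtain ⟨M, hM, hmin⟩ := Set.exists_min_image _ (fun M : Subgroup L => Nat.card M) (Set.toFinite _) hne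
    exact ⟨M, hM, fun N h3 h4 => hmin N ⟨h3, h4⟩⟩
  obtain ⟨s, hs, hss, hs1⟩ := hM.inv
  have hTne : ∃ t ∈ (T : Subgroup L), t * t = 1 ∧ t ≠ 1 := by
    have h3 : 2 ∣ Nat.card (T : Subgroup L) := by
      have h4 : orderOf s = 2 := orderOf_eq_prime (by rw [pow_two]; exact hss) hs1
      have h5 : 2 ^ 1 ∣ Nat.card (T : Subgroup L) := by
        apply T.pow_dvd_card_of_pow_dvd_card
        rw [pow_one, ← h4]
        exact orderOf_dvd_natCard s
      simpa using h5
    obtain ⟨t, ht⟩ := exists_prime_orderOf_dvd_card' 2 h3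
    refine ⟨t, t.2, ?_, ?_⟩
    · have := pow_orderOf_eq_one t
      rw [ht, pow_two] at this
      exact congrArg Subtype.val this
    · intro h5
      have h6 : t = 1 := Subtype.ext h5
      rw [h6, orderOf_one] at ht
      omega
  -- conjugates of `M` under automorphisms
  have huniq : ∀ α β : L ≃* L, (T : Subgroup L).map α.toMonoidHom = (T : Subgroup L).map β.toMonoidHom →
      M.map α.toMonoidHom = M.map β.toMonoidHom := by
    intro α β hαβ
    have hA : SE (M.map α.toMonoidHom) := hM.equiv α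
    have hB : SE (M.map β.toMonoidHom) := hM.equiv β
    have hTA : (T : Subgroup L).map α.toMonoidHom ≤ M.map α.toMonoidHom := map_mono hTM
    have hTB : (T : Subgroup L).map α.toMonoidHom ≤ M.map β.toMonoidHom := hαβ ▸ map_mono hTM
    have hAB : SE (M.map α.toMonoidHom ⊓ M.map β.toMonoidHom) := by
      apply se_inter hA hB
      obtain ⟨t, ht, h3, h3'⟩ := hTne
      refine ⟨α t, mem_inf.2 ⟨hTA ⟨t, ht, rfl⟩, hTB ⟨t, ht, rfl⟩⟩, by rw [← map_mul, h3, map_one], ?_⟩
      intro h4
      exact h3' (α.injective (h4.trans (map_one α).symm))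
    -- pull back to `T`
    have hC := hAB.equiv α.symm
    have hTC : (T : Subgroup L) ≤ (M.map α.toMonoidHom ⊓ M.map β.toMonoidHom).map α.symm.toMonoidHom := by
      intro t ht
      exact ⟨α t, mem_inf.2 ⟨hTA ⟨t, ht, rfl⟩, hTB ⟨t, ht, rfl⟩⟩, α.symm_apply_apply t⟩
    have hle := hmin _ hC hTC
    rw [card_map_of_injective α.symm.injective] at hle
    have e1 : M.map α.toMonoidHom ⊓ M.map β.toMonoidHom = M.map α.toMonoidHom := by
      apply eq_of_le_of_card_ge inf_le_left
      rw [card_map_of_injective α.injective]; exact hle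
    have e2 : M.map α.toMonoidHom ⊓ M.map β.toMonoidHom = M.map β.toMonoidHom := by
      apply eq_of_le_of_card_ge inf_le_right
      rw [card_map_of_injective β.injective]; exact hle
    rw [← e1]; exact e2
  let φ : G → (L ≃* L) := fun g => MulAut.conjNormal g
  have hφ : ∀ (g : G) (l : L), ((φ g l : L) : G) = g * l * g⁻¹ := fun g l => rfl
  let H : Subgroup G :=
    { carrier := {g | M.map (φ g).toMonoidHom = M}
      mul_mem' := by
        intro a b ha hb
        have ha' : M.map (φ a).toMonoidHom = M := ha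
        have hb' : M.map (φ b).toMonoidHom = M := hb
        show M.map (φ (a * b)).toMonoidHom = M
        have h3 : (φ (a * b)).toMonoidHom = (φ a).toMonoidHom.comp (φ b).toMonoidHom := by
          ext l
          show a * b * l * (a * b)⁻¹ = a * (b * l * b⁻¹) * a⁻¹
          group
        rw [h3, ← map_map, hb', ha']
      one_mem' := by
        show M.map (φ 1).toMonoidHom = M
        have h3 : (φ 1).toMonoidHom = MonoidHom.id L := by
          ext l
          show 1 * (l : G) * 1⁻¹ = l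
          group
        rw [h3, map_id]
      inv_mem' := by
        intro a ha
        have ha' : M.map (φ a).toMonoidHom = M := ha
        show M.map (φ a⁻¹).toMonoidHom = M
        conv_lhs => rw [← ha']
        rw [map_map]
        have h3 : (φ a⁻¹).toMonoidHom.comp (φ a).toMonoidHom = MonoidHom.id L := by
          ext l
          show a⁻¹ * (a * l * a⁻¹) * a⁻¹⁻¹ = l
          group
        rw [h3, map_id] }
  have hHmem : ∀ g : G, g ∈ H ↔ M.map (φ g).toMonoidHom = M := fun g => Iff.rfl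
  have hconj : ∀ l : L, φ (l : G) = MulAut.conj l := by
    intro l
    ext x
    rfl
  -- `H ∩ L = M`
  have hHL : ∀ l : L, (l : G) ∈ H → l ∈ M := by
    intro l hl
    rw [hHmem, hconj] at hl
    have h3 : l⁻¹ * s * l ∈ M := by
      rw [← mem_map_conj, hl]; exact hs
    exact hM.mem l s hs h3 hss hs1
  have hMH : ∀ l : L, l ∈ M → (l : G) ∈ H := by
    intro l hl
    rw [hHmem, hconj]
    ext x
    rw [mem_map_conj]
    constructor
    · intro h3
      have h4 := M.mul_mem (M.mul_mem hl h3) (M.inv_mem hl)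
      have h5 : l * (l⁻¹ * x * l) * l⁻¹ = x := by group
      rwa [h5] at h4
    · intro h3
      exact M.mul_mem (M.mul_mem (M.inv_mem hl) h3) hl
  -- involutions lie in `L`
  have hinvL : ∀ t : G, t * t = 1 → t ∈ L := by
    intro t ht
    have h3 : (QuotientGroup.mk' L t) ^ 2 = 1 := by
      rw [← map_pow, pow_two, ht, map_one]
    have h4 : orderOf (QuotientGroup.mk' L t) ∣ 2 := orderOf_dvd_of_pow_eq_one h3
    have h5 : orderOf (QuotientGroup.mk' L t) ∣ L.index := orderOf_dvd_natCard _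
    have h6 : Nat.Coprime L.index 2 := Nat.coprime_two_right.2 ho
    have h7 := Nat.eq_one_of_dvd_coprimes h6 h5 h4
    exact (QuotientGroup.eq_one_iff t).1 (orderOf_eq_one_iff.1 h7)
  refine ⟨H, H318.JOne.stronglyEmbedded_of_se ⟨?_, ?_, ?_⟩⟩
  · intro htop
    apply hM.ne_top
    rw [eq_top_iff]
    intro l _
    exact hHL l (by rw [htop]; exact mem_top _)
  · exact ⟨s, hMH s hs, congrArg Subtype.val hss, fun h3 => hs1 (Subtype.ext h3)⟩
  · intro g t ht hgt h3 h3'
    have htL := hinvL t h3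
    have htL' : g⁻¹ * t * g ∈ L := hinvL _ (by
      calc g⁻¹ * t * g * (g⁻¹ * t * g) = g⁻¹ * (t * t) * g := by group
        _ = 1 := by rw [h3]; group)
    have h4 : (⟨t, htL⟩ : L) ∈ M := hHL _ ht
    have h5 : (⟨g⁻¹ * t * g, htL'⟩ : L) ∈ M := hHL _ hgt
    -- `T^g = T^l`
    have h6 : IsPGroup 2 ↥((T : Subgroup L).map (φ g).toMonoidHom) := T.2.map _
    obtain ⟨l, hl⟩ := MulAction.exists_smul_eq L T (T.mapSurjective (f := (φ g).toMonoidHom) (φ g).surjective)
    have h7 : (T : Subgroup L).map (MulAut.conj l).toMonoidHom = (T : Subgroup L).map (φ g).toMonoidHom := by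
      have := congrArg (fun S : Sylow 2 L => (S : Subgroup L)) hl
      exact this
    have h8 := huniq _ _ h7
    -- `t ∈ M^g = M^l`
    have h9 : (⟨t, htL⟩ : L) ∈ M.map (φ g).toMonoidHom := by
      refine ⟨_, h5, Subtype.ext ?_⟩
      show g * (g⁻¹ * t * g) * g⁻¹ = t
      group
    rw [← h8, mem_map_conj] at h9
    have h10 : l ∈ M := hM.mem l _ h4 h9 (Subtype.ext h3) (fun h => h3' (congrArg Subtype.val h))
    rw [hHmem, ← h8]
    have h11 := hMH l h10
    rwa [hHmem, hconj] at h11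

/-! ### the groups of rank one -/

theorem se_psl2 {F : Type*} [Field F] [Fintype F] [CharP F 2] {K : Type*} [Group K]
    (e : K ≃* Matrix.ProjectiveSpecialLinearGroup (Fin 2) F) : ∃ M : Subgroup K, SE M :=
  ⟨_, ((se_borelTwo (F := F)).quot_center).equiv e.symm⟩

open LieRecognition.PSUThreeSylow LieRecognition in
theorem se_psu3 {F : Type*} [Field F] [Fintype F] {n : ℕ} (hn : 2 ≤ n) (hF : Fintype.card F = (2 ^ n) ^ 2)
    {K : Type*} [Group K] (e : K ≃* Cfsg.PSU 3 F (2 ^ n)) : ∃ M : Subgroup K, SE M := by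
  have hF' : Nat.card F = (2 ^ n) ^ 2 := by rw [Nat.card_eq_fintype_card, hF]
  obtain ⟨hc, σ, hσ, hs, -, -⟩ := exists_heis_equiv F (n := n) (by omega) hF'
  have hq : 1 < 2 ^ n := Nat.one_lt_two_pow (by omega)
  obtain ⟨c, hc'⟩ := HermHeis.exists_not_fixed (σ := σ) hq hs hF'
  obtain ⟨T, T', hTT', hT⟩ := exists_T hc'
  let f : SUJ σ ≃* Cfsg.SU 3 F (2 ^ n) :=
    ((conjT hTT').subgroupMap (SUJ σ)).trans (MulEquiv.subgroupCongr (SU_eq_map hs hTT' hT))
  exact ⟨_, (((se_borelThree (σ := σ)).equiv f).quot_center).equiv e.symm⟩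

theorem se_sz {G : Type*} [Group G] (h : Lie.IsoSuzuki G) : ∃ M : Subgroup G, SE M := by
  obtain ⟨F, _, _, m, hm, hF, ⟨e⟩⟩ := h
  obtain ⟨hcard, S, hN, hidx, -, hreg⟩ := S1163.result hm hF
  have hfin : Finite ↥(Lie.Sz F (2 ^ (m + 1))) := inferInstance
  have h2 : Fact (Nat.Prime 2) := ⟨Nat.prime_two⟩
  refine ⟨_, SE.equiv (M := normalizer ((S : Subgroup ↥(Lie.Sz F (2 ^ (m + 1)))) : Set ↥(Lie.Sz F (2 ^ (m + 1))))) ?_
    e.symm⟩
  refine ⟨?_, ?_, ?_⟩
  · intro h
    rw [h, index_top] at hidx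
    have : 0 < (2 ^ (2 * m + 1)) ^ 2 := by positivity
    omega
  · have hd : 2 ∣ Nat.card (S : Subgroup ↥(Lie.Sz F (2 ^ (m + 1)))) := by
      have h1 : 2 ^ 1 ∣ Nat.card (S : Subgroup ↥(Lie.Sz F (2 ^ (m + 1)))) := by
        apply S.pow_dvd_card_of_pow_dvd_card
        rw [hcard, pow_one]
        exact Dvd.dvd.mul_right (Dvd.dvd.mul_right (dvd_pow (dvd_pow_self 2 (by omega)) (by norm_num)) _) _
      simpa using h1
    obtain ⟨t, ht⟩ := exists_prime_orderOf_dvd_card' 2 hd
    refine ⟨t, le_normalizer t.2, ?_, ?_⟩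
    · have := pow_orderOf_eq_one t
      rw [ht, pow_two] at this
      exact congrArg Subtype.val this
    · intro h
      have h1 : t = 1 := Subtype.ext h
      rw [h1, orderOf_one] at ht
      omega
  · intro g t ht hgt h1 h1'
    -- `t` lies in the Sylow subgroup
    have htS : t ∈ (S : Subgroup ↥(Lie.Sz F (2 ^ (m + 1)))) := by
      have hp : IsPGroup 2 (zpowers t) := by
        have ho : orderOf t = 2 := orderOf_eq_prime (by rw [pow_two]; exact h1) h1'
        exact IsPGroup.of_card (n := 1) (by rw [Nat.card_zpowers, ho, pow_one])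
      have h3 : zpowers t ≤ normalizer ((S : Subgroup ↥(Lie.Sz F (2 ^ (m + 1)))) : Set ↥(Lie.Sz F (2 ^ (m + 1)))) := by
        rw [zpowers_le]; exact ht
      have h4 := hp.inf_normalizer_sylow S
      have h5 : zpowers t ⊓ normalizer ((S : Subgroup ↥(Lie.Sz F (2 ^ (m + 1)))) : Set ↥(Lie.Sz F (2 ^ (m + 1)))) = zpowers t ⊓ S := h4
      rw [inf_eq_left.2 h3] at h5
      have h6 : t ∈ zpowers t ⊓ (S : Subgroup ↥(Lie.Sz F (2 ^ (m + 1)))) := by
        rw [← h5]; exact mem_zpowers t
      exact h6.2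
    by_contra hg
    have hne : (QuotientGroup.mk g : ↥(Lie.Sz F (2 ^ (m + 1))) ⧸ normalizer ((S : Subgroup ↥(Lie.Sz F (2 ^ (m + 1)))) :
        Set ↥(Lie.Sz F (2 ^ (m + 1))))) ≠ QuotientGroup.mk 1 := by
      intro h
      apply hg
      have := QuotientGroup.eq.1 h.symm
      simpa using this
    obtain ⟨s, -, hs⟩ := hreg _ _ hne hne
    have e1 := hs ⟨t, htS⟩ (by
      show (QuotientGroup.mk (t * g) : ↥(Lie.Sz F (2 ^ (m + 1))) ⧸ normalizer ((S : Subgroup ↥(Lie.Sz F (2 ^ (m + 1)))) :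
        Set ↥(Lie.Sz F (2 ^ (m + 1))))) = QuotientGroup.mk g
      rw [eq_comm, QuotientGroup.eq, ← mul_assoc]
      exact hgt)
    have e2 := hs 1 (by
      show (QuotientGroup.mk (1 * g) : ↥(Lie.Sz F (2 ^ (m + 1))) ⧸ normalizer ((S : Subgroup ↥(Lie.Sz F (2 ^ (m + 1)))) :
        Set ↥(Lie.Sz F (2 ^ (m + 1))))) = QuotientGroup.mk g
      rw [one_mul])
    apply h1'
    have := e1.trans e2.symm
    exact congrArg Subtype.val this

end Cfsg.Agent.H276.SEOdd
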