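import Cfsg.Agent.H936.DSTw
import Cfsg.Agent.H276.TwoNil

/-!
# `Out` is 2-nilpotent for groups with a root group datum with field coordinates of characteristic 2 at the nodes
-/

set_option autoImplicit false
set_option linter.unusedSectionVars false
set_option maxHeartbeats 400000

namespace Cfsg.Agent.H276.TwoNilRgd

open CoxeterSystem Cfsg.Agent.ChevalleyStructure.CoxeterGeom Cfsg.Agent.Tits.Roots Cfsg.Agent.Tits.Core
  Cfsg.Agent.Tits.Exchange Cfsg.Agent.Nodes.Reps Cfsg.Agent.Nodes.BNOf Cfsg.Agent.Nodes.StabComb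
  Cfsg.Agent.Nodes.Bruhat Cfsg.Agent.Nodes.OppDec Cfsg.Agent.Nodes.LeviDec Cfsg.Agent.Nodes.NormalForm
  Cfsg.Agent.KFacts.RgdOpp Cfsg.Agent.KFacts.RgdAut Cfsg.Agent.KFacts.RgdDiag Cfsg.Agent.KFacts.RgdRigid
  Cfsg.Agent.KFacts.RgdField Cfsg.Agent.KFacts.RgdTau Cfsg.Agent.KFacts.RgdNodes Cfsg.Agent.KFacts.RgdSyl
open Cfsg.Agent.H936 Cfsg.Agent.H276.TwoNil

universe v u

section

variable {I W Y : Type*} [Fintype I] [DecidableEq I] [Group W] [Group Y] {M : CoxeterMatrix I}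
  {cs : CoxeterSystem M W} {A : I → I → ℤ} {h : IsCartan M A} {T : Subgroup Y} {n : I → Y}
  {X : (I → ℤ) → Subgroup Y}
variable {K : I → Type v} [∀ i, Field (K i)] [∀ i, Finite (K i)] {x : ∀ i, K i → Y} {χ : ∀ i, Y → K i}

/-- the automorphisms normalizing the torus and all simple root groups -/
def A1 (T : Subgroup Y) (X : (I → ℤ) → Subgroup Y) : Subgroup (MulAut Y) where
  carrier := {β | Diag T X β 1}
  mul_mem' := fun {a b} ha hb => by
    have := Diag.mul ha hb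
    rwa [mul_one] at this
  one_mem' := Diag.one
  inv_mem' := fun {a} ha => by
    have := Diag.inv ha
    rwa [inv_one] at this

theorem tn_A1 [Fact (Nat.Prime 2)] (R : RGD cs h 2 T n X) [Finite W] [Finite Y] [∀ i, CharP (K i) 2]
    (hG1 : RGD.Sup X {x | IsRoot cs h x} = ⊤)
    (C : ∀ i, Coord T (X (sr i)) (x i) (χ i)) : TN (A1 T X) := by
  have hex : ∀ β : A1 T X, ∃ τ, NTau T X χ (β : MulAut Y) τ := fun β => exists_ntau C β.2
  choose φ hφ using hex
  let Φ : A1 T X →* (∀ i, K i ≃+* K i) := MonoidHom.mk' φ fun a b =>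
    NTau.unique C (hφ (a * b)) ((hφ a).mul (hφ b))
  refine TN.of_hom Φ (TN.of_comm fun σ τ => by
    funext i
    exact Schreier.ClassBase.ringAut_comm (σ i) (τ i)) ?_
  intro β hβ
  have h1 : NTau T X χ (β : MulAut Y) 1 := by
    have := hφ β
    have h2 : φ β = 1 := hβ
    rwa [h2] at this
  have hfin : Finite (MulAut Y) := inferInstance
  have h0 : orderOf (β : MulAut Y) ≠ 0 := (orderOf_pos _).ne'
  obtain ⟨k, m, hm, hk⟩ := Nat.exists_eq_two_pow_mul_odd h0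
  have hpow : ∀ j : ℕ, NTau T X χ ((β : MulAut Y) ^ j) 1 := by
    intro j
    induction j with
    | zero => rw [pow_zero]; exact NTau.one
    | succ j ih =>
      rw [pow_succ]
      have := ih.mul h1
      rwa [mul_one] at this
  have h3 : (β : MulAut Y) ^ m = 1 := by
    refine NTau.eq_one C R hG1 (hpow m) (k := k) ?_
    rw [← pow_mul, mul_comm m, ← hk, pow_orderOf_eq_one]
  rw [← Subgroup.orderOf_coe]
  exact odd_orderOf_of_pow hm h3

theorem tn_frame [Fact (Nat.Prime 2)] (R : RGD cs h 2 T n X) [Finite W] [Finite Y] [∀ i, CharP (K i) 2]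
    (hG1 : RGD.Sup X {x | IsRoot cs h x} = ⊤)
    (C : ∀ i, Coord T (X (sr i)) (x i) (χ i))
    (hsym : ∀ σ : Equiv.Perm I, (∀ i j, M (σ i) (σ j) = M i j) → σ ^ 2 = 1) :
    TN (Frame cs h X) := by
  have hG : GG cs h T X = ⊤ := GG_eq_top hG1
  have key : ∀ β : Frame cs h X, Odd (orderOf β) → (β : MulAut Y) ∈ A1 T X := by
    intro β hodd
    obtain ⟨σ, hσ⟩ := exists_diag R hG β.2.1 β.2.2
    have hpow : ∀ j : ℕ, Diag T X ((β : MulAut Y) ^ j) (σ ^ j) := by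
      intro j
      induction j with
      | zero => rw [pow_zero, pow_zero]; exact Diag.one
      | succ j ih => rw [pow_succ, pow_succ]; exact ih.mul hσ
    have h1 := hpow (orderOf β)
    have h2 : (β : MulAut Y) ^ orderOf β = 1 := by
      rw [← Subgroup.orderOf_coe]; exact pow_orderOf_eq_one _
    rw [h2] at h1
    have h3 : σ ^ orderOf β = 1 := diag_unique R h1 Diag.one
    have h4 : σ ^ 2 = 1 := hsym σ (hσ.matrix (R := R))
    have h5 : σ = 1 := by
      have h6 : orderOf σ ∣ orderOf β := orderOf_dvd_of_pow_eq_one h3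
      have h7 : orderOf σ ∣ 2 := orderOf_dvd_of_pow_eq_one h4
      have h8 : Nat.Coprime (orderOf β) 2 := (Nat.coprime_two_right).2 hodd
      have h9 : orderOf σ = 1 := Nat.eq_one_of_dvd_coprimes h8 h6 h7
      exact orderOf_eq_one_iff.1 h9
    rw [h5] at hσ
    exact hσ
  intro a b ha hb
  have h1 := tn_A1 R hG1 C ⟨a, key a ha⟩ ⟨b, key b hb⟩ (by
    rw [← Subgroup.orderOf_coe]
    rw [← Subgroup.orderOf_coe] at ha
    exact ha) (by
    rw [← Subgroup.orderOf_coe]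
    rw [← Subgroup.orderOf_coe] at hb
    exact hb)
  rw [← Subgroup.orderOf_coe] at h1 ⊢
  exact h1

theorem tnOut_of_rgd [Fact (Nat.Prime 2)] (R : RGD cs h 2 T n X) [Finite W] [Finite Y] [∀ i, CharP (K i) 2]
    (hG1 : RGD.Sup X {x | IsRoot cs h x} = ⊤)
    (C : ∀ i, Coord T (X (sr i)) (x i) (χ i))
    (hsym : ∀ σ : Equiv.Perm I, (∀ i j, M (σ i) (σ j) = M i j) → σ ^ 2 = 1) :
    TNOut Y := by
  refine TNOut.of_cover (Frame cs h X).subtype (fun α => ?_) (tn_frame R hG1 C hsym)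
  obtain ⟨k, β, hβ, e⟩ := exists_frame_mul R hG1 α
  exact ⟨k, ⟨β, hβ⟩, e⟩

end

section Chev

open Cfsg.Agent.Nodes.RGDChev Cfsg.Agent.KFacts.RgdChevCoord
open Cfsg.Lie Cfsg.Agent.ChevalleyStructure Cfsg.Agent.ChevalleyStructure.Elts
  Cfsg.Agent.ChevalleyStructure.NPerm Cfsg.Agent.ChevalleyStructure.CoxeterGeomTypes

variable {D : ChevalleyDatum} {l : ℕ} {M : CoxeterMatrix (Fin l)}

theorem tnOut_group (hp : IsType D l M) (hM : SymTwo M) {K : Type u} [Field K] [Finite K] [CharP K 2] :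
    TNOut ↥(D.group K) := by
  have : Fact (Nat.Prime 2) := ⟨Nat.prime_two⟩
  have hW := finite_W hp (M.toCoxeterSystem)
  have R := rgd (K := K) hp M.toCoxeterSystem 2
  have hG1 : RGD.Sup (XX D l K) {x | IsRoot M.toCoxeterSystem hp.isCartan x} = ⊤ := G1_eq_top hp M.toCoxeterSystem
  have C := coords (K := K) hp M.toCoxeterSystem 2
  exact tnOut_of_rgd R hG1 (K := fun _ => K) (fun i => C.coord _ (isRoot_sr _ _ i)) hM

theorem tnOut_exc {G : Type*} [Group G] (h : IsExceptionalChevChar 2 G) : TNOut G := by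
  obtain ⟨F, _, _, _, h⟩ := h
  rcases h with ⟨-, ⟨e⟩⟩ | ⟨⟨e⟩⟩ | ⟨⟨e⟩⟩ | ⟨⟨e⟩⟩ | ⟨⟨e⟩⟩
  · exact TNOut.of_equiv e.symm (tnOut_group (D := chevG2) (l := 2) (M := CoxeterMatrix.G₂)
      (by simp [IsType, typeList]) (symTwo_two _))
  · exact TNOut.of_equiv e.symm (tnOut_group (D := chevF4) (l := 4) (M := CoxeterMatrix.F₄)
      (by simp [IsType, typeList]) symTwo_F4)
  · exact TNOut.of_equiv e.symm (tnOut_group (D := chevE6) (l := 6) (M := CoxeterMatrix.E₆)
      (by simp [IsType, typeList]) symTwo_E6)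
  · exact TNOut.of_equiv e.symm (tnOut_group (D := chevE7) (l := 7) (M := CoxeterMatrix.E₇)
      (by simp [IsType, typeList]) symTwo_E7)
  · exact TNOut.of_equiv e.symm (tnOut_group (D := chevE8) (l := 8) (M := CoxeterMatrix.E₈)
      (by simp [IsType, typeList]) symTwo_E8)

end Chev

section Tw

open Cfsg.Agent.Nodes.RGDTwGen Cfsg.Agent.Nodes.RGDChev
  Cfsg.Agent.Nodes.RGDFold Cfsg.Agent.Nodes.RGDFoldSL
open Cfsg.Lie Cfsg.Agent.ChevalleyStructure Cfsg.Agent.ChevalleyStructure.Elts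
  Cfsg.Agent.ChevalleyStructure.TwistedU Cfsg.Agent.ChevalleyStructure.TwistedFix
  Cfsg.Agent.ChevalleyStructure.TwistedFixOrbit
open Cfsg.Agent.ChevalleyStructure.SL2Hom (up lo)
open Cfsg.Agent.KFacts.TwESix.NodeCoord

section E6

open Cfsg.Agent.Nodes.RGDTwE6 Cfsg.Agent.Nodes.RGDTwNode.E6
open Cfsg.Agent.ChevalleyStructure.TwE6Basic (exists_frob)

theorem tnOut_twistedE6 {K : Type} [Field K] [Fintype K] [CharP K 2] {q : ℕ} (hq : IsPrimePow q)
    (hK : Fintype.card K = q ^ 2) : TNOut ↥(twistedE6 K q) := by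
  obtain ⟨φ, hφ, hqq⟩ := exists_frob hq hK
  have : Fact (Nat.Prime 2) := ⟨Nat.prime_two⟩
  have R := Cfsg.Agent.Nodes.RGDTwE6.rgd CoxeterMatrix.F₄.toCoxeterSystem hφ hqq 2
  have hG1 := Cfsg.Agent.Nodes.RGDTwE6.G1_eq_top CoxeterMatrix.F₄.toCoxeterSystem hφ hqq
  have hW : Finite CoxeterMatrix.F₄.Group := finite_W (hp := hp) CoxeterMatrix.F₄.toCoxeterSystem Cfsg.Agent.Nodes.RGDTwE6.isCartan foldData
  exact tnOut_of_rgd R hG1 (K := fun i => ↥(Fx φ ((rest i).length + 1)))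
    (fun i => coord (foldGrp hφ hqq) (nodeOK i) (hf_E6 φ i))
    (fun σ hσ => symTwo_F4 σ hσ)

end E6

section D4

open Cfsg.Agent.Nodes.RGDTwD4 Cfsg.Agent.Nodes.RGDTwNode.D4

theorem tnOut_twistedD4 {K : Type} [Field K] [Fintype K] [CharP K 2] {q : ℕ} (hq : IsPrimePow q)
    (hK : Fintype.card K = q ^ 3) : TNOut ↥(twistedD4 K q) := by
  obtain ⟨φ, hφ⟩ := D4Fixed.exists_frob hq hK
  have : Fact (Nat.Prime 2) := ⟨Nat.prime_two⟩
  have R := Cfsg.Agent.Nodes.RGDTwD4.rgd CoxeterMatrix.G₂.toCoxeterSystem hK hφ 2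
  have hG1 := Cfsg.Agent.Nodes.RGDTwD4.G1_eq_top CoxeterMatrix.G₂.toCoxeterSystem hK hφ
  have hW : Finite CoxeterMatrix.G₂.Group := finite_W (hp := hp) CoxeterMatrix.G₂.toCoxeterSystem Cfsg.Agent.Nodes.RGDTwD4.isCartan foldData
  exact tnOut_of_rgd R hG1 (K := fun i => ↥(Fx φ ((rest i).length + 1)))
    (fun i => coord (foldGrp hφ (D4Fixed.twisted_le_fix hK hφ)) (nodeOK i) (hf_D4 φ i))
    (fun σ hσ => symTwo_two _ σ hσ)

end D4

theorem tnOut_twisted {G : Type*} [Group G] (h : IsTwistedE6D4Char 2 G) : TNOut G := by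
  obtain ⟨K, _, _, _, q, hq, ⟨hK, ⟨e⟩⟩ | ⟨hK, ⟨e⟩⟩⟩ := h
  · exact TNOut.of_equiv e.symm (tnOut_twistedE6 hq hK)
  · exact TNOut.of_equiv e.symm (tnOut_twistedD4 hq hK)

end Tw

end Cfsg.Agent.H276.TwoNilRgd
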