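import Cfsg.Agent.H936.DSAlt
import Cfsg.Agent.H936.DSRee
import Cfsg.Agent.H936.DSTits
import Cfsg.Agent.H936.DSSpor
import Cfsg.Agent.H46.CharTwoList
import Cfsg.Agent.SectRankFour.AutM11
import Cfsg.Agent.H276.TwoNilRgd
import Cfsg.Agent.S2121
import Cfsg.Agent.S2126
import Cfsg.Agent.S2600
import Cfsg.Agent.S2601
import Cfsg.Agent.S2602
import Cfsg.Agent.S2603
import Cfsg.Agent.S2605
import Cfsg.Agent.S2607

/-!
# `Out` is 2-nilpotent for the simple groups of characteristic 2 type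
-/

set_option autoImplicit false

namespace Cfsg.Agent.H276.TwoNilList

open Cfsg Cfsg.Agent.H276.TwoNil Cfsg.Agent.H46

universe u

/-! ### general -/

theorem TNOut.of_chain {C K : Type*} [Group C] [Group K] [Finite K] (f : C →* MulAut K) (S : Subgroup C)
    (hs : ∀ α : MulAut K, ∃ k : K, ∃ c : C, α = MulAut.conj k * f c)
    (hc : ∀ a b : C, a * b * a⁻¹ * b⁻¹ ∈ S) {e : ℕ} (he : Odd e)
    (hS : ∀ s ∈ S, f (s ^ e) ∈ (MulAut.conj : K →* MulAut K).range) : TNOut K := by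
  have hfin : Finite (Cfsg.Out K) := Quotient.finite _
  let F : C →* Cfsg.Out K := (QuotientGroup.mk' (Cfsg.Inn K)).comp f
  have hF : Function.Surjective F := by
    intro x
    obtain ⟨α, rfl⟩ := QuotientGroup.mk'_surjective _ x
    obtain ⟨k, c, rfl⟩ := hs α
    refine ⟨c, ?_⟩
    rw [map_mul]
    have h1 : QuotientGroup.mk' (Cfsg.Inn K) (MulAut.conj k) = 1 := (QuotientGroup.eq_one_iff _).2 ⟨k, rfl⟩
    rw [h1, one_mul]
    rfl
  have hcomm : ∀ x y : Cfsg.Out K, x * y * x⁻¹ * y⁻¹ ∈ S.map F := by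
    intro x y
    obtain ⟨a, rfl⟩ := hF x
    obtain ⟨b, rfl⟩ := hF y
    exact ⟨_, hc a b, by simp⟩
  have hN : (S.map F).Normal := by
    refine ⟨fun n hn g => ?_⟩
    have h1 := mul_mem (hcomm g n) hn
    rwa [inv_mul_cancel_right] at h1
  refine TN.of_hom (QuotientGroup.mk' (S.map F)) (TN.of_comm ?_) ?_
  · intro x y
    obtain ⟨a, rfl⟩ := QuotientGroup.mk'_surjective _ x
    obtain ⟨b, rfl⟩ := QuotientGroup.mk'_surjective _ y
    rw [← map_mul, ← map_mul]
    apply QuotientGroup.eq.2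
    have h1 := hcomm b⁻¹ a⁻¹
    have h2 : (a * b)⁻¹ * (b * a) = b⁻¹ * a⁻¹ * b⁻¹⁻¹ * a⁻¹⁻¹ := by group
    rw [h2]; exact h1
  · intro x hx
    obtain ⟨s, hs1, rfl⟩ := (QuotientGroup.eq_one_iff x).1 hx
    refine odd_orderOf_of_pow he ?_
    rw [← map_pow]
    exact (QuotientGroup.eq_one_iff _).2 (hS s hs1)

/-- a group of 2-power order -/
theorem TN.of_two {A : Type*} [Group A] [Finite A] {k : ℕ} (h : Nat.card A = 2 ^ k) : TN A := by
  have h1 : ∀ x : A, Odd (orderOf x) → x = 1 := by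
    intro x hx
    have h2 : orderOf x ∣ 2 ^ k := h ▸ orderOf_dvd_natCard x
    have h3 : Nat.Coprime (orderOf x) (2 ^ k) := Nat.Coprime.pow_right k ((Nat.coprime_two_right).2 hx)
    exact orderOf_eq_one_iff.1 (Nat.eq_one_of_dvd_coprimes h3 dvd_rfl h2)
  intro x y hx hy
  rw [h1 x hx, h1 y hy, one_mul, orderOf_one]
  exact odd_one

/-- central kernel of order 2 and cyclic image -/
theorem TN.of_central {A B : Type*} [Group A] [Group B] [IsCyclic B] (f : A →* B) (h : Nat.card f.ker = 2) :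
    TN A := by
  have h1 : f.ker ≤ Subgroup.center A := by
    intro z hz
    rw [Subgroup.mem_center_iff]
    intro g
    have h2 : g * z * g⁻¹ ∈ f.ker := (inferInstance : f.ker.Normal).conj_mem z hz g
    by_cases hz1 : z = 1
    · rw [hz1, mul_one, one_mul]
    · have hfin : Finite f.ker := Nat.finite_of_card_ne_zero (by rw [h]; norm_num)
      have h3 := (Nat.card_eq_two_iff' (1 : f.ker)).1 h
      obtain ⟨w, hw, hu⟩ := h3
      have e1 := hu ⟨z, hz⟩ (fun e => hz1 (congrArg Subtype.val e))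
      have e2 := hu ⟨g * z * g⁻¹, h2⟩ (fun e => hz1 (by
        have e3 : g * z * g⁻¹ = 1 := congrArg Subtype.val e
        have e4 : g * z = g := by rwa [mul_inv_eq_one] at e3
        exact mul_eq_left.1 e4))
      have e5 : g * z * g⁻¹ = z := congrArg Subtype.val (e2.trans e1.symm)
      rwa [mul_inv_eq_iff_eq_mul] at e5
  exact TN.of_comm (MonoidHom.isMulCommutative_of_isCyclic_of_ker_le_center f h1).is_comm.comm

theorem card_eq_two_pow {F : Type*} [Field F] [Fintype F] [CharP F 2] : ∃ f : ℕ, 1 ≤ f ∧ Fintype.card F = 2 ^ f := by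
  obtain ⟨n, -, hn⟩ := FiniteField.card F 2
  exact ⟨n, n.2, hn⟩

theorem odd_gcd_pow_sub {n f : ℕ} (hf : 1 ≤ f) : Odd (Nat.gcd n (2 ^ f - 1)) := by
  refine Odd.of_dvd_nat ?_ (Nat.gcd_dvd_right n _)
  have h1 : Even (2 ^ f) := (Nat.even_pow.2 ⟨even_two, by omega⟩)
  have h2 : 1 ≤ 2 ^ f := Nat.one_le_two_pow
  obtain ⟨k, hk⟩ := h1
  exact ⟨k - 1, by omega⟩

theorem odd_gcd_pow_add {n f : ℕ} (hf : 1 ≤ f) : Odd (Nat.gcd n (2 ^ f + 1)) := by
  refine Odd.of_dvd_nat ?_ (Nat.gcd_dvd_right n _)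
  have h1 : Even (2 ^ f) := (Nat.even_pow.2 ⟨even_two, by omega⟩)
  exact h1.add_one

/-! ### the classical groups of characteristic 2 -/

theorem tnOut_psl_two {F : Type*} [Field F] [Fintype F] (h4 : 4 ≤ Fintype.card F) :
    TNOut (Matrix.ProjectiveSpecialLinearGroup (Fin 2) F) := by
  obtain ⟨p, hchar⟩ := CharP.exists F
  have hp : Fact p.Prime := ⟨CharP.char_is_prime F p⟩
  obtain ⟨n, -, hn⟩ := FiniteField.card F p
  obtain ⟨φ, hφ, hcyc, hk⟩ := Cfsg.Agent.S2602.result (f := n) n.2 hn (hn ▸ h4)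
  have : Finite (Cfsg.Out (Matrix.ProjectiveSpecialLinearGroup (Fin 2) F)) := Quotient.finite _
  have h1 : Nat.gcd 2 (p ^ (n : ℕ) - 1) = 1 ∨ Nat.gcd 2 (p ^ (n : ℕ) - 1) = 2 :=
    (Nat.dvd_prime Nat.prime_two).1 (Nat.gcd_dvd_left _ _)
  rcases h1 with h1 | h1
  · exact TN.of_hom_card φ (TN.of_comm fun x y => mul_comm x y) (by rw [hk, h1]; exact odd_one)
  · exact TN.of_central φ (by rw [hk, h1])

theorem tnOut_psl {F : Type*} [Field F] [Fintype F] [CharP F 2] {n : ℕ} (hn : 2 ≤ n)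
    (h4 : n = 2 → 4 ≤ Fintype.card F) : TNOut (Matrix.ProjectiveSpecialLinearGroup (Fin n) F) := by
  rcases Nat.lt_or_ge n 3 with h | h
  · obtain rfl : n = 2 := by omega
    exact tnOut_psl_two (h4 rfl)
  · obtain ⟨f, hf, hF⟩ := card_eq_two_pow (F := F)
    have : Fact (Nat.Prime 2) := ⟨Nat.prime_two⟩
    obtain ⟨φ, -, -, hk⟩ := Cfsg.Agent.S2601.result (n := n) hf hF h
    have : Finite (Cfsg.Out (Matrix.ProjectiveSpecialLinearGroup (Fin n) F)) := Quotient.finite _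
    exact TN.of_hom_card φ (TN.of_comm fun x y => mul_comm x y) (by rw [hk]; exact odd_gcd_pow_sub hf)

theorem tnOut_psu {K : Type*} [Field K] [Fintype K] [CharP K 2] {n q : ℕ} (hK : Fintype.card K = q ^ 2) (hn : 3 ≤ n)
    (h32 : ¬ (n = 3 ∧ q = 2)) : TNOut (Cfsg.PSU n K q) := by
  obtain ⟨g, hg, hF⟩ := card_eq_two_pow (F := K)
  have : Fact (Nat.Prime 2) := ⟨Nat.prime_two⟩
  obtain ⟨f, -, hf⟩ : ∃ f ≤ g, q = 2 ^ f := by
    have h1 : q ∣ 2 ^ g := by
      rw [← hF, hK, pow_two]; exact dvd_mul_right q q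
    exact (Nat.dvd_prime_pow Nat.prime_two).1 h1
  have hf1 : 1 ≤ f := by
    rcases Nat.eq_zero_or_pos f with h0 | h0
    · exfalso
      rw [h0, pow_zero] at hf
      rw [hf, one_pow] at hK
      have := Fintype.one_lt_card (α := K)
      omega
    · exact h0
  obtain ⟨φ, -, -, hk⟩ := Cfsg.Agent.S2603.result hf1 hf hK hn h32
  have : Finite (Cfsg.Out (Cfsg.PSU n K q)) := Quotient.finite _
  exact TN.of_hom_card φ (TN.of_comm fun x y => mul_comm x y) (by rw [hk, hf]; exact odd_gcd_pow_add hf1)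

section PSp

open Cfsg.Agent.Schreier.ClassPSp Cfsg.Agent.ClassicalGeometry.SympAutSemi

theorem tnOut_psp {F : Type*} [Field F] [Fintype F] [CharP F 2] {m : ℕ} (hm : 2 ≤ m) : TNOut (PSp m F) := by
  obtain ⟨f, hf, hF⟩ := card_eq_two_pow (F := F)
  have : Finite (Cfsg.Out (PSp m F)) := Quotient.finite _
  rcases Nat.lt_or_ge m 3 with h | h
  · obtain rfl : m = 2 := by omega
    have h1 := (Cfsg.Agent.S2600.result hf hF).1
    exact TN.of_comm (fun x y => (IsCyclic.commGroup (α := Cfsg.Out (PSp 2 F))).mul_comm x y)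
  · have hodd : Odd (2 ^ f - 1) := by
      have := odd_gcd_pow_sub (n := 2 ^ f - 1) hf
      rwa [Nat.gcd_self] at this
    refine TNOut.of_chain (Psi m F) (sim m F) (fun α => ?_) (fun a b => ?_) hodd (fun s hs => ?_)
    · have hB : Cfsg.Agent.ClassicalGeometry.AutPSpCount.Pres α :=
        Cfsg.Agent.ClassicalGeometry.SympAutOddA.recog hm (Or.inl (by omega)) α
      obtain ⟨g, hg⟩ := Cfsg.Agent.ClassicalGeometry.SympAutExists.exists_semi hm α hB
      exact ⟨1, g, by rw [map_one, one_mul]; exact hg.symm⟩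
    · apply derived_one
      rw [derivedSeries_succ, derivedSeries_zero]
      exact Subgroup.commutator_mem_commutator (Subgroup.mem_top a) (Subgroup.mem_top b)
    · apply Psi_isom
      obtain ⟨l, hl, h1⟩ := hs
      have h2 : ∀ k : ℕ, IsSemi ((s : Equiv.Perm (Fin m ⊕ Fin m → F)) ^ k) (RingEquiv.refl F) (l ^ k) := by
        intro k
        induction k with
        | zero =>
          rw [pow_zero, pow_zero]
          exact ⟨fun _ _ => rfl, fun _ _ => rfl, fun _ _ => by rw [one_mul]; rfl⟩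
        | succ k ih =>
          rw [pow_succ, pow_succ]
          have := ih.mul h1
          exact this
      have h3 := h2 (2 ^ f - 1)
      have h4 : l ^ (2 ^ f - 1) = 1 := by
        rw [← hF]; exact FiniteField.pow_card_sub_one_eq_one l hl
      rw [h4] at h3
      exact h3

end PSp

theorem tnOut_plus {F : Type*} [Field F] [Fintype F] [CharP F 2] {m : ℕ} (hm : 4 ≤ m) :
    TNOut (Cfsg.POmega F (Cfsg.quadFormPlus m F)) := by
  obtain ⟨f, hf, hF⟩ := card_eq_two_pow (F := F)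
  have h1 := Cfsg.Agent.S2607.result hf hF hm
  by_cases h4 : m = 4
  · rw [if_pos h4] at h1
    obtain ⟨e⟩ := h1
    exact TN.of_equiv e.symm (TN.prod tn_perm_three (TN.of_comm fun x y => mul_comm x y))
  · rw [if_neg h4] at h1
    obtain ⟨e⟩ := h1
    exact TN.of_equiv e.symm (TN.of_comm fun x y => mul_comm x y)

theorem tnOut_minus {F : Type*} [Field F] [Fintype F] [CharP F 2] {m : ℕ} (hm : 4 ≤ m) {a b : F}
    (hab : ∀ z₁ z₂ : F, z₁ ^ 2 + a * z₁ * z₂ + b * z₂ ^ 2 = 0 → z₁ = 0 ∧ z₂ = 0) :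
    TNOut (Cfsg.POmega F (Cfsg.quadFormMinus (m - 1) F a b)) := by
  obtain ⟨f, hf, hF⟩ := card_eq_two_pow (F := F)
  have h1 := (Cfsg.Agent.S2605.result hf hF hm a b hab).1
  exact TN.of_comm (fun x y => (IsCyclic.commGroup
    (α := Cfsg.Out (Cfsg.POmega F (Cfsg.quadFormMinus (m - 1) F a b)))).mul_comm x y)

/-! ### Suzuki and Ree groups, the Tits group -/

theorem tnOut_suzuki {G : Type*} [Group G] (h : Lie.IsoSuzuki G) : TNOut G := by
  obtain ⟨F, _, _, m, hm, hF, ⟨e⟩⟩ := h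
  refine TNOut.of_equiv e.symm (TNOut.of_card ?_)
  rw [Cfsg.Agent.S2126.result hm hF]
  exact ⟨m, rfl⟩

theorem tnOut_ree {G : Type*} [Group G] (h : Lie.Iso2F4 G) : TNOut G := by
  obtain ⟨K, _, _, m, hm, hK, ⟨e⟩⟩ := h
  refine TNOut.of_equiv e.symm ?_
  have hfin : Finite (K ≃+* K) := Finite.of_injective (fun e : K ≃+* K => (e : K → K)) DFunLike.coe_injective
  refine TNOut.of_cover (MonoidHom.mk' (fun τ : K ≃+* K => S2128.fld τ (2 ^ m))
    (fun τ ρ => H71.FldAut.fldF_mul τ ρ (2 ^ m))) (fun α => ?_)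
    (TN.of_comm fun a b => Schreier.ClassBase.ringAut_comm a b)
  obtain ⟨g, τ, h⟩ := H71.FldAut.twF4_aut hm hK α
  exact ⟨g, τ, h⟩

theorem tnOut_tits {G : Type*} [Group G] (h : Lie.IsoTits G) : TNOut G := by
  obtain ⟨e⟩ := h
  obtain ⟨e'⟩ := Cfsg.Agent.TitsK.exists_equiv
  have hfin : Finite Cfsg.Agent.FourTwo.Base.LL := Cfsg.Agent.FourTwo.Perf.instFiniteLL
  have h1 : Nat.card (Cfsg.Out ↥Cfsg.Agent.TitsK.TT) ≤ 2 :=
    Nat.le_of_dvd (by norm_num) Cfsg.Agent.TitsK.tdata.index_inn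
  exact TNOut.of_equiv (K := ↥Cfsg.Agent.TitsK.TT) (e.trans e').symm (TNOut.of_card_le_two h1)

theorem tnOut_altSix {G : Type*} [Group G] (h : Nonempty (G ≃* alternatingGroup (Fin 6))) : TNOut G := by
  obtain ⟨e⟩ := h
  let F := GaloisField 3 2
  have : Fact (Nat.Prime 3) := ⟨Nat.prime_three⟩
  have hF : Fintype F := Fintype.ofFinite F
  have hc : Fintype.card F = 9 := by
    rw [← Nat.card_eq_fintype_card, GaloisField.card 3 2 (by norm_num)]
    norm_num
  obtain ⟨f⟩ := Cfsg.Agent.S0254.result (F := F) hc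
  exact TNOut.of_equiv (f.trans e.symm) (tnOut_psl_two (by omega))

/-- `U₃(3)` and `U₄(3)` -/
theorem tnOut_psu_three {K : Type*} [Field K] [Fintype K] {n : ℕ} (hn : n = 3 ∨ n = 4) (hK : Fintype.card K = 9) :
    TNOut (Cfsg.PSU n K 3) := by
  have : Fact (Nat.Prime 3) := ⟨Nat.prime_three⟩
  obtain ⟨φ, hs, -, hk⟩ := Cfsg.Agent.S2603.result (K := K) (p := 3) (f := 1) (q := 3) (n := n) le_rfl (by norm_num)
    (by rw [hK]; norm_num) (by omega) (by omega)
  have : Finite (Cfsg.Out (Cfsg.PSU n K 3)) := Quotient.finite _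
  rcases hn with rfl | rfl
  · exact TN.of_hom_card φ (TN.of_comm fun x y => mul_comm x y) (by rw [hk]; decide)
  · refine TN.of_two (k := 3) ?_
    have h1 := Subgroup.card_mul_index φ.ker
    rw [hk, Subgroup.index_ker, MonoidHom.range_eq_top.2 hs] at h1
    rw [← h1]
    have h2 : Nat.card (⊤ : Subgroup (Multiplicative (ZMod (2 * 1)))) = 2 := by
      rw [Subgroup.card_top, Nat.card_congr Multiplicative.toAdd, Nat.card_zmod]
    rw [h2]
    norm_num

/-! ### the lists -/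

theorem tnOut_lie {G : Type*} [Group G] (h : IsLieTypeChar 2 G) : TNOut G := by
  rcases h with h | h | h | h | h | h | h | h | h | h | h
  · obtain ⟨F, _, _, _, n, hn, h4, ⟨e⟩⟩ := h
    exact TNOut.of_equiv e.symm (tnOut_psl hn h4)
  · obtain ⟨F, _, _, _, m, hm, -, ⟨e⟩⟩ := h
    exact TNOut.of_equiv e.symm (tnOut_psp hm)
  · obtain ⟨F, _, _, _, n, q, hF, hn, h32, ⟨e⟩⟩ := h
    exact TNOut.of_equiv e.symm (tnOut_psu hF hn h32)
  · obtain ⟨F, _, _, _, m, hm, hodd, -⟩ := h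
    obtain ⟨f, hf, hF⟩ := card_eq_two_pow (F := F)
    rw [hF] at hodd
    exact absurd hodd (by
      rw [Nat.not_odd_iff_even]
      exact Nat.even_pow.2 ⟨even_two, by omega⟩)
  · obtain ⟨F, _, _, _, m, hm, ⟨e⟩⟩ := h
    exact TNOut.of_equiv e.symm (tnOut_plus hm)
  · obtain ⟨F, _, _, _, m, a, b, hm, hab, ⟨e⟩⟩ := h
    exact TNOut.of_equiv e.symm (tnOut_minus hm hab)
  · exact TwoNilRgd.tnOut_exc h
  · exact TwoNilRgd.tnOut_twisted h
  · exact tnOut_suzuki h.2
  · exact tnOut_ree h.2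
  · exact absurd h.1 (by norm_num)

theorem tnOut_chev {G : Type*} [Group G] (h : IsChevSimple 2 G) : TNOut G := by
  rcases h with h | ⟨-, h | h | h⟩ | ⟨h, -⟩
  · exact tnOut_lie h
  · exact tnOut_altSix h
  · obtain ⟨F, _, _, hF, ⟨e⟩⟩ := h
    exact TNOut.of_equiv e.symm (tnOut_psu_three (Or.inl rfl) hF)
  · exact tnOut_tits h
  · exact absurd h (by norm_num)

theorem tnOut_small {G : Type u} [Group G] (h : CharTwoSmall G) : TNOut G := by
  rcases h with h | h | h | h | h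
  · obtain ⟨F, _, _, -, h5, ⟨e⟩⟩ := h
    exact TNOut.of_equiv e.symm (tnOut_psl_two (by omega))
  · obtain ⟨F, _, _, hF, ⟨e⟩⟩ := h
    refine TNOut.of_equiv e.symm ?_
    have : Fact (Nat.Prime 3) := ⟨Nat.prime_three⟩
    obtain ⟨φ, -, -, hk⟩ := Cfsg.Agent.S2601.result (F := F) (p := 3) (f := 1) (n := 3) le_rfl (by rw [hF]; norm_num) le_rfl
    have : Finite (Cfsg.Out (Matrix.ProjectiveSpecialLinearGroup (Fin 3) F)) := Quotient.finite _
    exact TN.of_hom_card φ (TN.of_comm fun x y => mul_comm x y) (by rw [hk]; decide)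
  · obtain ⟨F, _, _, hF, ⟨e⟩⟩ := h
    exact TNOut.of_equiv e.symm (tnOut_psu_three (Or.inl rfl) hF)
  · obtain ⟨F, _, _, hF, ⟨e⟩⟩ := h
    have h2 : CharP F 2 := by
      obtain ⟨p, hp⟩ := CharP.exists F
      have hpr : p.Prime := CharP.char_is_prime F p
      have : Fact p.Prime := ⟨hpr⟩
      obtain ⟨n, -, hn⟩ := FiniteField.card F p
      rw [hF] at hn
      have h3 : p ∣ 16 := hn ▸ dvd_pow_self p n.2.ne'
      have h4 : p ∣ 2 ^ 4 := h3
      have h5 := (Nat.prime_dvd_prime_iff_eq hpr Nat.prime_two).1 (hpr.dvd_of_dvd_pow h4)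
      rwa [h5] at hp
    exact TNOut.of_equiv e.symm (tnOut_psu (by rw [hF]; norm_num) le_rfl (by omega))
  · have : Finite G := Nat.finite_of_card_ne_zero (by rw [h.2]; norm_num)
    refine TNOut.of_card_le_two ?_
    have h1 : Cfsg.Inn G = ⊤ := by
      rw [eq_top_iff]
      intro φ _
      obtain ⟨g, hg⟩ := SectRankFour.AutM11.exists_conj h φ
      exact ⟨g, hg.symm⟩
    have h2 : Nat.card (Cfsg.Out G) = (Cfsg.Inn G).index := rfl
    rw [h2, h1, Subgroup.index_top]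
    norm_num

theorem tnOut_spor {G : Type u} [Group G] [Finite G] (h : CharTwoSpor G) : TNOut G := by
  rcases h with h | h | h | h | h | h | h | h | h
  · obtain ⟨F, _, _, n, q, -, hF, ⟨rfl, rfl⟩, ⟨e⟩⟩ := h
    exact TNOut.of_equiv e.symm (tnOut_psu_three (Or.inr rfl) hF)
  · obtain ⟨F, _, _, -, hF, ⟨e⟩⟩ := h
    refine TNOut.of_equiv e.symm (TNOut.of_card_le_two ?_)
    have : Fact (Nat.Prime 3) := ⟨Nat.prime_three⟩
    have hc : CharP F 3 := by
      obtain ⟨p, hp⟩ := CharP.exists F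
      have hpr : p.Prime := CharP.char_is_prime F p
      have : Fact p.Prime := ⟨hpr⟩
      obtain ⟨n, -, hn⟩ := FiniteField.card F p
      rw [hF] at hn
      have h3 : p ∣ 3 := hn ▸ dvd_pow_self p n.2.ne'
      have h5 := (Nat.prime_dvd_prime_iff_eq hpr Nat.prime_three).1 h3
      rwa [h5] at hp
    have h1 := Cfsg.Agent.S2121.result (F := F) 3 1 (by rw [hF]; norm_num) (by norm_num)
    rw [h1]; norm_num
  · obtain ⟨e⟩ := h; exact TNOut.of_equiv e.symm (TNOut.of_card_le_two (by rw [S2062.result]))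
  · obtain ⟨e⟩ := h; exact TNOut.of_equiv e.symm (TNOut.of_card_le_two (by rw [S2063.result]; norm_num))
  · obtain ⟨e⟩ := h; exact TNOut.of_equiv e.symm (TNOut.of_card_le_two (by rw [S2064.result]; norm_num))
  · obtain ⟨F, _, _, ω, hF, hω, ⟨e⟩⟩ := h
    exact TNOut.of_equiv e.symm (TNOut.of_card_le_two (by rw [S2067.result hF ω hω]))
  · obtain ⟨e⟩ := h; exact TNOut.of_equiv e.symm (TNOut.of_card_le_two (by rw [S2068.result]; norm_num))
  · obtain ⟨e⟩ := h; exact TNOut.of_equiv e.symm (TNOut.of_card_le_two (by rw [S2070.result]; norm_num))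
  · obtain ⟨e⟩ := h
    have : Finite Spor.Th := Finite.of_equiv G e.toEquiv
    exact TNOut.of_equiv e.symm (TNOut.of_card_le_two (by rw [S2083.result]; norm_num))

end Cfsg.Agent.H276.TwoNilList
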