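import Cfsg.Agent.H274.CStarList
import Cfsg.Agent.H274.RgdMin
import Cfsg.Agent.H276.Almost
import Cfsg.Agent.H276.TwoNilList
import Cfsg.Agent.H276.SEOdd
import Cfsg.Agent.H276.BlockEndSp
import Cfsg.Agent.H991.QuatQuot
import Cfsg.Agent.NotCT.Orders
import Cfsg.Agent.H44.CU43
import Cfsg.Agent.H44.CJ3

/-!
# The structure theorem S3052 from the list of the groups of characteristic 2 type
-/

set_option autoImplicit false

namespace Cfsg.Agent.H276.BlockMain

open Subgroup Cfsg Cfsg.Agent.H276.CStarBase Cfsg.Agent.H276.Almost Cfsg.Agent.H276.TwoNil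

universe u

/-- the block disjunct -/
def Blk {G : Type u} [Group G] (T : Subgroup G) [Group.IsNilpotent ↥T] : Prop :=
  Cfsg.baumannSubgroupOf 2 T = T ∧ Group.nilpotencyClass ↥T = 2 ∧
        ∃ (E : Subgroup G) (_ : ((Cfsg.pCoreOf 2 E).subgroupOf E).Normal) (F : Type) (_ : Field F) (_ : Fintype F) (n : ℕ),
          3 ≤ n ∧ Fintype.card F = 2 ^ n ∧ Cfsg.IsBaumannBlock 2 T E ∧ ¬ E ≤ Cfsg.cStarOf 2 T ∧
          Nonempty (↥E ⧸ (Cfsg.pCoreOf 2 E).subgroupOf E ≃* Matrix.SpecialLinearGroup (Fin 2) F)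

theorem charP_two {F : Type} [Field F] [Fintype F] {n : ℕ} (hF : Fintype.card F = 2 ^ n) : CharP F 2 := by
  obtain ⟨p, hp⟩ := CharP.exists F
  have hpp : p.Prime := CharP.char_is_prime F p
  have : Fact p.Prime := ⟨hpp⟩
  obtain ⟨m, -, hm⟩ := FiniteField.card F p
  have h2 : p ∣ 2 ^ n := by
    rw [← hF, hm]
    exact dvd_pow_self p m.pos.ne'
  have h3 : p = 2 := (Nat.prime_dvd_prime_iff_eq hpp Nat.prime_two).1 (hpp.dvd_of_dvd_pow h2)
  rw [← h3]
  exact hp

/-- the order of a Sylow 2-subgroup -/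
theorem card_le {K : Type*} [Group K] [Finite K] (S : Sylow 2 K) (h : ¬ 2 ^ 11 ∣ Nat.card K) :
    Nat.card (S : Subgroup K) ≤ 2 ^ 10 := by
  have : Fact (Nat.Prime 2) := ⟨Nat.prime_two⟩
  obtain ⟨k, hk⟩ := IsPGroup.iff_card.1 S.isPGroup'
  rw [hk]
  have h1 : k ≤ 10 := by
    by_contra hk11
    exact h ((pow_dvd_pow 2 (by omega)).trans (hk ▸ card_subgroup_dvd_card (S : Subgroup K)))
  exact Nat.pow_le_pow_right (by norm_num) h1

/-- a 2-subgroup lies in a normal subgroup of odd index -/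
theorem le_of_odd {G : Type*} [Group G] {L T : Subgroup G} [L.Normal] (ho : Odd L.index) (hT : IsPGroup 2 T) : T ≤ L := by
  intro t ht
  obtain ⟨k, hk⟩ := hT ⟨t, ht⟩
  have hk' : t ^ 2 ^ k = 1 := congrArg Subtype.val hk
  have h1 : ((t : G ⧸ L)) ^ 2 ^ k = 1 := by rw [← QuotientGroup.mk_pow, hk']; rfl
  have h2 : ((t : G ⧸ L)) ^ L.index = 1 := by
    rw [Subgroup.index_eq_card]
    exact pow_card_eq_one'
  have h3 : orderOf (t : G ⧸ L) ∣ 1 := by
    have h4 := Nat.dvd_gcd (orderOf_dvd_of_pow_eq_one h1) (orderOf_dvd_of_pow_eq_one h2)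
    rwa [Nat.Coprime.gcd_eq_one (Nat.Coprime.pow_left k (Nat.coprime_two_left.2 ho))] at h4
  have h4 : (t : G ⧸ L) = 1 := orderOf_eq_one_iff.1 (Nat.dvd_one.1 h3)
  exact (QuotientGroup.eq_one_iff t).1 h4

/-- `C*(L,T) = L` implies `C*(G,T) = G` -/
theorem cStar_top {G : Type u} [Group G] [Finite G] {L : Subgroup G} [L.Normal] {T : Sylow 2 G}
    (hTL : (T : Subgroup G) ≤ L) (hT : (T : Subgroup G) ≠ ⊥)
    (h : cStarOf 2 ((T.subtype hTL : Sylow 2 L) : Subgroup L) = ⊤) : cStarOf 2 (T : Subgroup G) = ⊤ := by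
  have : Fact (Nat.Prime 2) := ⟨Nat.prime_two⟩
  have h5 : ((T.subtype hTL : Sylow 2 L) : Subgroup L).map L.subtype = (T : Subgroup G) := by
    rw [Sylow.coe_subtype, subgroupOf_map_subtype, inf_eq_left.2 hTL]
  have h1 := cStarOf_map_le L.subtype L.subtype_injective ((T.subtype hTL : Sylow 2 L) : Subgroup L)
  rw [h, ← MonoidHom.range_eq_map, L.range_subtype, h5] at h1
  have h3 := Sylow.normalizer_sup_eq_top (T.subtype hTL)
  rw [h5] at h3
  rw [eq_top_iff, ← h3]
  exact sup_le (H274.BauMain.norm_le_cStar (H274.RgdMin.bau_ne_bot T.isPGroup' hT)) h1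

/-- **The structure theorem** (`hkn` : the classification). -/
theorem main (hkn : ∀ (X : Type u) [Group X] [Finite X] [IsSimpleGroup X], IsKnownSimple' X)
    {G : Type u} [Group G] [Finite G] (hloc : Cfsg.IsOfLocalCharacteristic 2 G) (T : Sylow 2 G)
    (hO : Cfsg.pCore 2 G = ⊥) (hO2 : Cfsg.pResidual 2 G = ⊤) (hC : Cfsg.cStarOf 2 (T : Subgroup G) ≠ ⊤)
    [Group.IsNilpotent ↥(T : Subgroup G)] :
    (∃ H : Subgroup G, Cfsg.IsStronglyEmbedded H) ∨
      ((∃ m : ℕ, Nonempty (↥(T : Subgroup G) ≃* DihedralGroup m)) ∨ Cfsg.IsQuasiDihedral ↥(T : Subgroup G)) ∨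
      Nat.card (T : Subgroup G) ≤ 2 ^ 10 ∨ Blk (T : Subgroup G) := by
  have hp : Fact (Nat.Prime 2) := ⟨Nat.prime_two⟩
  by_cases hse : ∃ H : Subgroup G, IsStronglyEmbedded H
  · exact Or.inl hse
  right
  have hct : IsCharacteristicTwoType G := ⟨even_iff_two_dvd.2 hloc.1, hloc.2⟩
  obtain ⟨L, hLn, hLs, hLna, hLc⟩ := almost_simple hct hO hse
  have hLe := even_of_simple hLs hLna
  have hcL := ctt_of_normal hct L hLe
  have hlocL : IsOfLocalCharacteristic 2 L := ⟨even_iff_two_dvd.1 hcL.1, hcL.2⟩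
  have hout : TNOut L := by
    by_cases h2 : PRankLE 2 2 L
    · exact TwoNilList.tnOut_small (H46.charTwoSmall hLna hcL h2)
    · rcases H46.charTwoList hkn hLna hcL h2 with h | h
      · exact TwoNilList.tnOut_chev h
      · exact TwoNilList.tnOut_spor h
  have hodd : Odd L.index := odd_index hO2 hLc hout
  have hTL : (T : Subgroup G) ≤ L := le_of_odd hodd T.isPGroup'
  have hTne : (T : Subgroup G) ≠ ⊥ := by
    intro h0
    have h1 : 2 ∣ Nat.card (T : Subgroup G) := T.dvd_card_of_dvd_card hloc.1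
    rw [h0, card_bot] at h1
    norm_num at h1
  have htop : cStarOf 2 ((T.subtype hTL : Sylow 2 L) : Subgroup L) ≠ ⊤ := fun h => hC (cStar_top hTL hTne h)
  have hA : ¬ AllTop L := fun h => htop (h _)
  have eT : ↥((T.subtype hTL : Sylow 2 L) : Subgroup L) ≃* ↥(T : Subgroup G) := subgroupOfEquivOfLe hTL
  have hcard : ∀ {n : ℕ}, Nat.card L = n → ¬ 2 ^ 11 ∣ n → Nat.card (T : Subgroup G) ≤ 2 ^ 10 := by
    intro n hn h
    rw [← Nat.card_congr eT.toEquiv]
    exact card_le _ (hn ▸ h)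
  have hL := H274.CStarList.main hkn hLna hlocL (T.subtype hTL) htop
  have hSE : ¬ ∃ M : Subgroup L, TwoURows.SE M := fun h => hse (SEOdd.se_of_odd_index L hodd h)
  rcases hL with ⟨F, i1, i2, q, hF, hq, ⟨e⟩⟩ | ⟨⟨e⟩⟩ | ⟨F, i1, i2, hF, ⟨e⟩⟩ | h | h | h | h | ⟨F, i1, i2, n, hn, hF, h⟩ |
    ⟨F, i1, i2, n, hn, hF, ⟨e⟩⟩ | ⟨F, i1, i2, n, hn, hF, ⟨e⟩⟩
  · -- `L₂(q)`
    have hq' : q = 2 ∨ Odd q := by
      have h1 : 1 < q := by rw [← hF]; exact Fintype.one_lt_card
      rcases hq with rfl | ⟨k, hk | hk⟩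
      · right; decide
      · rcases Nat.eq_zero_or_pos k with rfl | hk0
        · left; rw [hk]; norm_num
        · right
          rw [hk]
          exact (Nat.even_pow.2 ⟨even_two, by omega⟩).add_one
      · rcases Nat.eq_zero_or_pos k with rfl | hk0
        · norm_num at hk; omega
        · right
          have h2 : Even (q + 1) := by rw [hk]; exact Nat.even_pow.2 ⟨even_two, by omega⟩
          rcases Nat.even_or_odd q with h3 | h3
          · exact absurd h2 (Nat.not_even_iff_odd.2 h3.add_one)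
          · exact h3
    rcases hq' with rfl | hq'
    · right; left
      refine hcard (n := 6) ?_ (by norm_num)
      rw [Nat.card_congr e.toEquiv]
      have h1 := Cfsg.Agent.S0243.result hF 2 le_rfl
      rw [Fin.prod_univ_two] at h1
      norm_num at h1
      exact h1
    · left; left
      obtain ⟨k, -, ⟨f⟩⟩ := H991.psl2_dihedral (F := F) (hF ▸ hq')
        ((T.subtype hTL).mapSurjective (f := e.toMonoidHom) e.surjective)
      refine ⟨2 ^ k, ⟨(eT.symm.trans ?_).trans f⟩⟩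
      exact ((T.subtype hTL : Sylow 2 L) : Subgroup L).equivMapOfInjective e.toMonoidHom e.injective
  · -- `L₃(3)`
    right; left
    refine hcard (n := 5616) ?_ (by norm_num)
    rw [Nat.card_congr e.toEquiv]
    have h1 := Cfsg.Agent.S0243.result (F := ZMod 3) (ZMod.card 3) 3 (by norm_num)
    rw [Fin.prod_univ_three] at h1
    generalize Nat.card (Matrix.ProjectiveSpecialLinearGroup (Fin 3) (ZMod 3)) = c at h1 ⊢
    norm_num at h1
    omega
  · exact absurd (H44.CU43.cStarTop hF e) hA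
  · exact Or.inr (Or.inl (hcard (NotCT.Orders.m11 h) (by norm_num)))
  · exact Or.inr (Or.inl (hcard (NotCT.Orders.m22 h) (by norm_num)))
  · exact Or.inr (Or.inl (hcard (NotCT.Orders.m23 h) (by norm_num)))
  · exact absurd (H44.CJ3.cStarTop h) hA
  · have hch : CharP F 2 := charP_two hF
    rcases h with ⟨⟨e⟩⟩ | ⟨⟨e⟩⟩ | ⟨⟨e⟩⟩
    · exact absurd (SEOdd.se_psl2 e) hSE
    · rcases Nat.lt_or_ge n 3 with h3 | h3
      · obtain rfl : n = 2 := by omega
        right; left
        refine hcard (n := 20160) ?_ (by norm_num)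
        rw [Nat.card_congr e.toEquiv]
        have h1 := Cfsg.Agent.S0243.result hF 3 (by norm_num)
        rw [Fin.prod_univ_three] at h1
        norm_num at h1
        omega
      · exact Or.inr (Or.inr (BlockEnd.concl_L3 hC h3 hF hLn hTL e))
    · rcases Nat.lt_or_ge n 3 with h3 | h3
      · obtain rfl : n = 2 := by omega
        right; left
        refine hcard (n := 979200) ?_ (by norm_num)
        rw [Nat.card_congr e.toEquiv, TypeSpFour.Model.card_PSp (by rw [hF]; decide), hF]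
        norm_num
      · exact Or.inr (Or.inr (BlockEndSp.concl_PSp4 hC h3 hF hLn hTL e))
  · exact absurd (SEOdd.se_psu3 hn (by rw [hF, ← pow_mul, mul_comm]) e) hSE
  · have h1 : Lie.IsoSuzuki L := by
      obtain ⟨m, rfl⟩ : ∃ m, n = m + 1 := ⟨n - 1, by omega⟩
      refine ⟨F, i1, i2, m, by omega, ?_, ⟨e⟩⟩
      rw [hF]
      congr 1
    exact absurd (SEOdd.se_sz h1) hSE

end Cfsg.Agent.H276.BlockMain
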