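import Cfsg.Agent.H276.DStar
import Cfsg.Agent.H276.Replace

/-!
# `D*(S) ≤ Z(J(S))`, and the weak replacement theorem for metabelian `p`-groups
-/

set_option autoImplicit false

open Subgroup
open scoped commutatorElement

namespace Cfsg.Agent.H276

variable {S : Type*} [Group S]

theorem mem_family_map {T : Type*} [Group T] (e : S ≃* T) {A : Subgroup S}
    (hA : A ∈ Cfsg.dStarFamily S) : A.map e.toMonoidHom ∈ Cfsg.dStarFamily T := by
  refine ⟨?_, ?_⟩
  · apply isMulCommutative_of
    rintro _ ⟨x, hx, rfl⟩ _ ⟨y, hy, rfl⟩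
    rw [← map_mul, ← map_mul, commS hA.1 hx hy]
  · intro x hx
    obtain ⟨y, rfl⟩ := e.surjective x
    rintro _ ⟨a, ha, rfl⟩
    have hz : zpowers (e y) = (zpowers y).map e.toMonoidHom := by
      rw [MonoidHom.map_zpowers]; rfl
    rw [hz, ← Subgroup.map_sup, ← map_commutator, ← map_commutator,
      (Subgroup.map_eq_bot_iff_of_injective _ e.injective)] at hx
    have := hA.2 y hx a ha
    have h2 := congrArg e this
    rw [map_mul, map_mul] at h2
    exact h2

theorem dStar_map {T : Type*} [Group T] (e : S ≃* T) :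
    (Cfsg.dStar S).map e.toMonoidHom = Cfsg.dStar T := by
  apply le_antisymm
  · rw [map_le_iff_le_comap]
    refine sSup_le fun A hA => ?_
    rw [← map_le_iff_le_comap]
    exact le_sSup (mem_family_map e hA)
  · refine sSup_le fun B hB => ?_
    have h1 : B.map e.symm.toMonoidHom ≤ Cfsg.dStar S := le_sSup (mem_family_map e.symm hB)
    intro b hb
    refine ⟨e.symm b, h1 ⟨b, hb, rfl⟩, ?_⟩
    exact e.apply_symm_apply b

instance dStar_normal : (Cfsg.dStar S).Normal := by
  refine ⟨fun n hn g => ?_⟩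
  have h := dStar_map (MulAut.conj g : S ≃* S)
  rw [← h]
  exact ⟨n, hn, rfl⟩

/-- If `M` does not normalise `A`, some element `m` of `M` does not normalise `A`, while all
`⁅m, a⁆` do. -/
theorem exists_replacer [Group.IsNilpotent S] {A M : Subgroup S}
    (h : ¬ M ≤ normalizer (A : Set S)) (hMn : M.Normal) :
    ∃ m ∈ M, m ∉ normalizer (A : Set S) ∧ ∀ a ∈ A, ⁅m, a⁆ ∈ M ∧ ⁅m, a⁆ ∈ normalizer (A : Set S) := by
  classical
  obtain ⟨n, hn'⟩ := Subgroup.nilpotent_iff_lowerCentralSeries.mp
    (inferInstance : Group.IsNilpotent S)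
  have hex : ∃ k, iterComm M A k ≤ normalizer (A : Set S) := by
    refine ⟨n, ?_⟩
    have := iterComm_le_lowerCentralSeries M A n
    rw [hn'] at this
    exact this.trans bot_le
  have hle : ∀ k, iterComm M A k ≤ M := by
    intro k
    induction k with
    | zero => exact le_rfl
    | succ k ih => exact (commutator_mono ih le_rfl).trans (commutator_le_left M A)
  let k := Nat.find hex
  have hk : iterComm M A k ≤ normalizer (A : Set S) := Nat.find_spec hex
  have hk0 : k ≠ 0 := by
    intro h0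
    rw [h0] at hk
    exact h hk
  obtain ⟨j, hj⟩ := Nat.exists_eq_succ_of_ne_zero hk0
  have hjn : ¬ iterComm M A j ≤ normalizer (A : Set S) := Nat.find_min hex (by omega)
  obtain ⟨m, hm, hmn⟩ := Set.not_subset.mp hjn
  refine ⟨m, hle j hm, hmn, fun a ha => ?_⟩
  have h1 : ⁅m, a⁆ ∈ iterComm M A (j + 1) := commutator_mem_commutator hm ha
  refine ⟨hle _ h1, ?_⟩
  rw [hj] at hk
  exact hk h1

theorem mem_normalizer_of_commutators [Finite S] {A : Subgroup S} {g : S}
    (h : ∀ a ∈ A, ⁅g, a⁆ ∈ A) : g ∈ normalizer (A : Set S) := by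
  have h1 : ∀ a ∈ A, g * a * g⁻¹ ∈ A := by
    intro a ha
    have e : g * a * g⁻¹ = ⁅g, a⁆ * a := by rw [commutatorElement_def]; group
    rw [e]; exact mul_mem (h a ha) ha
  rw [Subgroup.mem_normalizer_iff]
  intro x
  refine ⟨h1 x, fun hx => ?_⟩
  -- finite: conj by g maps A into A, so is bijective
  have hmap : A.map (MulAut.conj g).toMonoidHom = A := by
    apply eq_of_le_of_card_ge
    · rintro _ ⟨a, ha, rfl⟩
      exact h1 a ha
    · exact (Nat.card_congr (A.equivMapOfInjective (MulAut.conj g).toMonoidHom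
        (MulAut.conj g).injective).toEquiv).le
  have : g * x * g⁻¹ ∈ A.map (MulAut.conj g).toMonoidHom := by rw [hmap]; exact hx
  obtain ⟨y, hy, hyx⟩ := this
  have h2 : MulAut.conj g y = MulAut.conj g x := hyx
  have h3 := (MulAut.conj g).injective h2
  rw [← h3]; exact hy

/-- `D*(S)` lies in every abelian subgroup of maximal order. -/
theorem dStar_le_maxAbelian [Finite S] [Group.IsNilpotent S] {A : Subgroup S}
    (hA : A ∈ Cfsg.maxAbelianSubgroups S) : Cfsg.dStar S ≤ A := by
  classical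
  by_contra hcon
  set D := Cfsg.dStar S with hD
  let s : Set (Subgroup S) := {A | A ∈ Cfsg.maxAbelianSubgroups S ∧ ¬ D ≤ A}
  obtain ⟨A₀, ⟨hA₀, hn₀⟩, hmax⟩ := Set.exists_max_image s (fun A => Nat.card (A ⊓ D : Subgroup S))
    (Set.toFinite s) ⟨A, hA, hcon⟩
  have hDc : IsMulCommutative D := dStar_comm
  have hDn : D.Normal := dStar_normal
  -- D does not normalise A₀
  have hDnn : ¬ D ≤ normalizer (A₀ : Set S) := by
    intro hle
    have hcomm : ⁅A₀, D⁆ = ⊥ := by
      refine family_centralizes dStar_mem_family hA₀.1 ?_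
      rw [← le_normalizer_iff_commutator_le_left]
      exact hle
    apply hn₀
    intro d hd
    apply mem_of_centralizes_max hA₀
    intro a ha
    exact (mem_centralizer_iff.mp ((commutator_eq_bot_iff_le_centralizer.mp hcomm) ha) d hd).symm
  obtain ⟨m, hm, hmn, hmc⟩ := exists_replacer hDnn hDn
  obtain ⟨B, hB, hZB, hcB, -, hBM⟩ := exists_replacement hDn hDc hA₀ m (fun a ha => (hmc a ha).1)
    (fun a ha b hb => (mem_normalizer_iff.mp (hmc a ha).2 b).mp hb)
  -- B ⊓ D is bigger
  have hlt : A₀ ⊓ D < B ⊓ D := by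
    refine lt_of_le_of_ne (le_inf hZB inf_le_right) ?_
    intro heq
    apply hmn
    apply mem_normalizer_of_commutators
    intro a ha
    have : ⁅m, a⁆ ∈ B ⊓ D := mem_inf.mpr ⟨hcB a ha, (hmc a ha).1⟩
    rw [← heq] at this
    exact (mem_inf.mp this).1
  have hcardlt : Nat.card (A₀ ⊓ D : Subgroup S) < Nat.card (B ⊓ D : Subgroup S) := by
    by_contra hle
    exact hlt.ne (eq_of_le_of_card_ge hlt.le (not_lt.mp hle))
  have hDB : D ≤ B := by
    by_contra hDB
    exact absurd (hmax B ⟨hB, hDB⟩) (not_le.mpr hcardlt)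
  apply hDnn
  intro d hd
  obtain ⟨a, ha, z, hz, rfl⟩ := hBM d (hDB hd) hd
  exact mul_mem (le_normalizer hz.1) (hmc a ha).2

theorem exists_maxAbelian (S : Type*) [Group S] [Finite S] :
    ∃ A : Subgroup S, A ∈ Cfsg.maxAbelianSubgroups S := by
  let s : Set (Subgroup S) := {A | IsMulCommutative A}
  obtain ⟨A, hA, hmax⟩ := Set.exists_max_image s (fun A => Nat.card A)
    (Set.toFinite s) ⟨⊥, show IsMulCommutative (⊥ : Subgroup S) from inferInstance⟩
  exact ⟨A, hA, fun B hB => hmax B hB⟩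

/-- `D*(S) ≤ Z(J(S))`. -/
theorem dStar_le_center_thompson [Finite S] [Group.IsNilpotent S] :
    Cfsg.dStar S ≤ Cfsg.thompsonSubgroupA S ⊓
      Subgroup.centralizer (Cfsg.thompsonSubgroupA S : Set S) := by
  refine le_inf ?_ ?_
  · obtain ⟨A, hA⟩ := exists_maxAbelian S
    exact (dStar_le_maxAbelian hA).trans (le_sSup hA)
  · rw [le_centralizer_iff]
    refine sSup_le fun A hA => ?_
    rw [le_centralizer_iff]
    intro d hd
    rw [mem_centralizer_iff]
    intro a ha
    exact commS hA.1 ha (dStar_le_maxAbelian hA hd)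

/-- **Weak replacement theorem for metabelian groups** (Gillam). -/
theorem weak_replacement [Finite S] [Group.IsNilpotent S] (hmeta : IsMulCommutative (_root_.commutator S))
    (A : Subgroup S) (hA : A ∈ Cfsg.maxAbelianSubgroups S) :
    ∃ B ∈ Cfsg.maxAbelianSubgroups S, B.Normal ∧ B ≤ Subgroup.normalClosure (A : Set S) := by
  classical
  set M := _root_.commutator S with hM
  set N := Subgroup.normalClosure (A : Set S) with hN
  let s : Set (Subgroup S) := {B | B ∈ Cfsg.maxAbelianSubgroups S ∧ B ≤ N}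
  obtain ⟨A₀, ⟨hA₀, hn₀⟩, hmax⟩ := Set.exists_max_image s (fun A => Nat.card (A ⊓ M : Subgroup S))
    (Set.toFinite s) ⟨A, hA, subset_normalClosure⟩
  have hMn : M.Normal := inferInstance
  have hNn : N.Normal := normalClosure_normal
  have key : ∀ g : S, (∀ a ∈ A₀, ⁅g, a⁆ ∈ M ∧ ⁅g, a⁆ ∈ normalizer (A₀ : Set S)) →
      g ∈ normalizer (A₀ : Set S) := by
    intro g hg
    obtain ⟨B, hB, hZB, hcB, hBN, hBM⟩ := exists_replacement hMn hmeta hA₀ g
      (fun a ha => (hg a ha).1) (fun a ha b hb => (mem_normalizer_iff.mp (hg a ha).2 b).mp hb)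
    have heq : A₀ ⊓ M = B ⊓ M := eq_of_le_of_card_ge (le_inf hZB inf_le_right)
      (hmax B ⟨hB, hBN N hNn hn₀⟩)
    apply mem_normalizer_of_commutators
    intro a ha
    have : ⁅g, a⁆ ∈ B ⊓ M := mem_inf.mpr ⟨hcB a ha, (hg a ha).1⟩
    rw [← heq] at this
    exact (mem_inf.mp this).1
  have hMA : M ≤ normalizer (A₀ : Set S) := by
    by_contra hcon
    obtain ⟨m, hm, hmn, hmc⟩ := exists_replacer hcon hMn
    exact hmn (key m hmc)
  refine ⟨A₀, hA₀, ?_, hn₀⟩
  rw [← normalizer_eq_top_iff, eq_top_iff]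
  intro g _
  refine key g fun a ha => ?_
  have : ⁅g, a⁆ ∈ M := by
    rw [hM, commutator_def]
    exact commutator_mem_commutator (mem_top g) (mem_top a)
  exact ⟨this, hMA this⟩

end Cfsg.Agent.H276
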